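import Mathlib
import Cfsg.Prelude.Def_Transfer

/-!
A `3'`-group with an operator `b` of order three having a single Jordan block of size three over
the field with three elements: basic facts.
-/

set_option autoImplicit false
set_option linter.style.haveILetI false
set_option linter.unusedSectionVars false

open scoped commutatorElement

namespace H88.Cubic

variable {V : Type*} [AddCommGroup V] [Module (ZMod 3) V]

theorem zmod_three_cases (t : ZMod 3) : t = 0 ∨ t = 1 ∨ t = -1 := by revert t; decide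

theorem eq_zero_of_add_self {x : V} (h : x + x = 0) : x = 0 := by
  have h2 : (2 : ZMod 3) • x = 0 := by rw [two_smul]; exact h
  exact (smul_eq_zero.1 h2).resolve_left (by decide)

theorem eq_zero_of_eq_neg {x : V} (h : x = -x) : x = 0 :=
  eq_zero_of_add_self (eq_neg_iff_add_eq_zero.1 h)

/-- Three independent subspaces permuted cyclically bound the rank of `b - 1`. -/
theorem perm3_bound [FiniteDimensional (ZMod 3) V] (b : Module.End (ZMod 3) V)
    (hb : Function.Injective b) (W₁ W₂ W₃ : Submodule (ZMod 3) V)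
    (h12 : ∀ x ∈ W₁, b x ∈ W₂) (h23 : ∀ x ∈ W₂, b x ∈ W₃)
    (hind : ∀ x ∈ W₁, ∀ y ∈ W₂, ∀ z ∈ W₃, x + y + z = 0 → x = 0 ∧ y = 0 ∧ z = 0) :
    Module.finrank (ZMod 3) W₁ + Module.finrank (ZMod 3) W₂ ≤
      Module.finrank (ZMod 3) (LinearMap.range (b - 1)) := by
  rw [← Module.finrank_prod]
  refine LinearMap.finrank_le_finrank_of_injective
    (f := ((b - 1).rangeRestrict).comp (W₁.subtype.coprod W₂.subtype)) ?_
  rw [← LinearMap.ker_eq_bot, LinearMap.ker_eq_bot']
  rintro ⟨⟨x, hx⟩, ⟨y, hy⟩⟩ h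
  have h1 : b (x + y) - (x + y) = 0 := congrArg Subtype.val h
  have h2 : -x + (b x - y) + b y = 0 := by rw [← h1, map_add]; abel
  obtain ⟨hx0, -, hy0⟩ := hind _ (W₁.neg_mem hx) _ (W₂.sub_mem (h12 x hx) hy) _ (h23 y hy) h2
  have hx' : x = 0 := neg_eq_zero.1 hx0
  have hy' : y = 0 := hb (by rw [hy0, map_zero])
  subst hx' hy'
  rfl

variable {H : Type*} [Group H]

/-- The configuration. -/
structure Setup (σ : H →* Module.End (ZMod 3) V) (R : Subgroup H) (b q : H) : Prop where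
  inj : Function.Injective σ
  nR : R.Normal
  pow_b : b ^ 3 = 1
  gen : ∀ h : H, ∃ r ∈ R, ∃ i : ℕ, h = r * b ^ i
  cop : (Nat.card R).Coprime 3
  sol : Group.IsSolvable R
  comm : R ≤ ⁅R, Subgroup.zpowers b⁆
  mem_q : q ∈ R
  sq_q : q * q = 1
  comm_q : Commute q (b * q * b⁻¹)
  prod_q : b * (b * q * b⁻¹) * b⁻¹ = q * (b * q * b⁻¹)
  ne_q : b * q * b⁻¹ ≠ q
  irr : ∀ N : Submodule (ZMod 3) V, (∀ h, ∀ v ∈ N, σ h v ∈ N) → N = ⊥ ∨ N = ⊤
  rank : Module.finrank (ZMod 3) (LinearMap.range (σ b - 1)) ≤ 2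

/-- The eigenspace of the pair `(q, bqb⁻¹)` for the signs `(1, -1)`. -/
def eigLine (σ : H →* Module.End (ZMod 3) V) (b q : H) : Submodule (ZMod 3) V :=
  LinearMap.ker (σ q - 1) ⊓ LinearMap.ker (σ (b * q * b⁻¹) + 1)

theorem mem_eigLine {σ : H →* Module.End (ZMod 3) V} {b q : H} {v : V} :
    v ∈ eigLine σ b q ↔ σ q v = v ∧ σ (b * q * b⁻¹) v = -v := by
  simp [eigLine, sub_eq_zero, add_eq_zero_iff_eq_neg]

theorem mul_apply' (σ : H →* Module.End (ZMod 3) V) (g h : H) (v : V) :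
    σ (g * h) v = σ g (σ h v) := by rw [map_mul]; rfl

theorem inv_apply' (σ : H →* Module.End (ZMod 3) V) (g : H) (v : V) : σ g⁻¹ (σ g v) = v := by
  rw [← mul_apply', inv_mul_cancel, map_one]; rfl

theorem apply_inv' (σ : H →* Module.End (ZMod 3) V) (g : H) (v : V) : σ g (σ g⁻¹ v) = v := by
  rw [← mul_apply', mul_inv_cancel, map_one]; rfl

/-- The group-theoretic facts about the four-group. -/
structure Four (b q : H) : Prop where
  pow_b : b ^ 3 = 1
  sq : q * q = 1
  comm : Commute q (b * q * b⁻¹)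
  prod : b * (b * q * b⁻¹) * b⁻¹ = q * (b * q * b⁻¹)
  ne : b * q * b⁻¹ ≠ q

theorem Four.conj_prod {b q : H} (hF : Four b q) :
    b * (q * (b * q * b⁻¹)) * b⁻¹ = q := by
  calc b * (q * (b * q * b⁻¹)) * b⁻¹ = (b * q * b⁻¹) * (b * (b * q * b⁻¹) * b⁻¹) := by group
    _ = (b * q * b⁻¹) * (q * (b * q * b⁻¹)) := by rw [hF.prod]
    _ = q * ((b * q * b⁻¹) * (b * q * b⁻¹)) := by rw [← mul_assoc, ← hF.comm.eq, mul_assoc]
    _ = q := by
      rw [show (b * q * b⁻¹) * (b * q * b⁻¹) = b * (q * q) * b⁻¹ by group, hF.sq, mul_one,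
        mul_inv_cancel, mul_one]

variable {σ : H →* Module.End (ZMod 3) V} {b q : H}

theorem Four.sq_apply (hF : Four b q) (v : V) : σ q (σ q v) = v := by
  rw [← mul_apply', hF.sq, map_one]; rfl

/-- The images of an eigenvector under `b`. -/
theorem Four.eig_images (hF : Four b q) {v : V} (hv : v ∈ eigLine σ b q) :
    (σ q (σ b v) = -σ b v ∧ σ (b * q * b⁻¹) (σ b v) = σ b v) ∧
      (σ q (σ b (σ b v)) = -σ b (σ b v) ∧
        σ (b * q * b⁻¹) (σ b (σ b v)) = -σ b (σ b v)) := by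
  set q1 := b * q * b⁻¹ with hq1
  obtain ⟨h1, h2⟩ := mem_eigLine.1 hv
  have e1 : ∀ (g : H) (w : V), σ (b * g * b⁻¹) (σ b w) = σ b (σ g w) := fun g w => by
    rw [← mul_apply', ← mul_apply', inv_mul_cancel_right]
  have h3 : σ (q * q1) v = -v := by rw [mul_apply', h2, map_neg, h1]
  have hb1 : σ q (σ b v) = -σ b v := by
    have := e1 (q * q1) v
    rw [hF.conj_prod, h3, map_neg] at this
    exact this
  have hb2 : σ q1 (σ b v) = σ b v := by
    have := e1 q v
    rwa [h1] at this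
  have hb3 : σ (q * q1) (σ b v) = -σ b v := by rw [mul_apply', hb2, hb1]
  refine ⟨⟨hb1, hb2⟩, ?_, ?_⟩
  · have := e1 (q * q1) (σ b v)
    rw [hF.conj_prod, hb3, map_neg] at this
    exact this
  · have := e1 q (σ b v)
    rwa [hb1, map_neg] at this

theorem Four.eig_indep (hF : Four b q) {x y z : V}
    (hx : σ q x = x) (hx' : σ (b * q * b⁻¹) x = -x)
    (hy : σ q y = -y) (hy' : σ (b * q * b⁻¹) y = y)
    (hz : σ q z = -z) (hz' : σ (b * q * b⁻¹) z = -z)
    (h : x + y + z = 0) : x = 0 ∧ y = 0 ∧ z = 0 := by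
  have _ := hF
  have h1 : x - y - z = 0 := by
    have := congrArg (σ q) h
    rw [map_add, map_add, map_zero, hx, hy, hz] at this
    rw [← this]; abel
  have h2 : -x + y - z = 0 := by
    have := congrArg (σ (b * q * b⁻¹)) h
    rw [map_add, map_add, map_zero, hx', hy', hz'] at this
    rw [← this]; abel
  have x0 : x = 0 := eq_zero_of_add_self (by
    calc x + x = (x + y + z) + (x - y - z) := by abel
      _ = 0 := by rw [h, h1, add_zero])
  have y0 : y = 0 := eq_zero_of_add_self (by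
    calc y + y = (x + y + z) + (-x + y - z) := by abel
      _ = 0 := by rw [h, h2, add_zero])
  refine ⟨x0, y0, ?_⟩
  rwa [x0, y0, zero_add, zero_add] at h

/-- If `q` moves a vector of an invariant subspace, it contains an eigenvector. -/
theorem Four.exists_eig (hF : Four b q) (N : Submodule (ZMod 3) V)
    (hN : ∀ g ∈ ({b, q, b * q * b⁻¹} : Set H), ∀ v ∈ N, σ g v ∈ N) {v : V} (hv : v ∈ N)
    (hmove : σ q v ≠ v) : ∃ w ∈ N, w ≠ 0 ∧ w ∈ eigLine σ b q := by
  set q1 := b * q * b⁻¹ with hq1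
  have hq1sq : ∀ u, σ q1 (σ q1 u) = u := fun u => by
    rw [← mul_apply', hq1, show b * q * b⁻¹ * (b * q * b⁻¹) = b * (q * q) * b⁻¹ by group, hF.sq,
      mul_one, mul_inv_cancel, map_one]
    rfl
  set w := v - σ q v with hw
  have hw0 : w ≠ 0 := sub_ne_zero.2 (Ne.symm hmove)
  have hwN : w ∈ N := N.sub_mem hv (hN q (by simp) v hv)
  have hwq : σ q w = -w := by rw [hw, map_sub, hF.sq_apply]; abel
  have hc : ∀ u, σ q (σ q1 u) = σ q1 (σ q u) := fun u => by
    rw [← mul_apply', ← mul_apply', hF.comm.eq]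
  have e1 : ∀ (g : H) (u : V), σ (b * g * b⁻¹) (σ b u) = σ b (σ g u) := fun g u => by
    rw [← mul_apply', ← mul_apply', inv_mul_cancel_right]
  by_cases hz : w + σ q1 w = 0
  · -- signs `(-, -)`
    have hwq1 : σ q1 w = -w := eq_neg_of_add_eq_zero_right hz
    have hprod : σ (q * q1) w = w := by rw [mul_apply', hwq1, map_neg, hwq, neg_neg]
    refine ⟨σ b w, hN b (by simp) _ hwN, fun h => hw0 ?_, mem_eigLine.2 ⟨?_, ?_⟩⟩
    · rw [← inv_apply' σ b w, h, map_zero]
    · have := e1 (q * q1) w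
      rwa [hF.conj_prod, hprod] at this
    · have := e1 q w
      rwa [hwq, map_neg] at this
  · -- signs `(-, +)`
    set u := w + σ q1 w
    have huN : u ∈ N := N.add_mem hwN (hN q1 (by simp [hq1]) _ hwN)
    have huq : σ q u = -u := by rw [show u = w + σ q1 w from rfl, map_add, hc, hwq, map_neg, neg_add]
    have huq1 : σ q1 u = u := by rw [map_add, hq1sq, add_comm]
    have hprod : σ (q * q1) u = -u := by rw [mul_apply', huq1, huq]
    have h1q : σ q (σ b u) = -σ b u := by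
      have := e1 (q * q1) u
      rwa [hF.conj_prod, hprod, map_neg] at this
    have h1q1 : σ q1 (σ b u) = -σ b u := by
      have := e1 q u
      rwa [huq, map_neg] at this
    have h1p : σ (q * q1) (σ b u) = σ b u := by rw [mul_apply', h1q1, map_neg, h1q, neg_neg]
    refine ⟨σ b (σ b u), hN b (by simp) _ (hN b (by simp) _ huN), fun h => hz ?_,
      mem_eigLine.2 ⟨?_, ?_⟩⟩
    · rw [← inv_apply' σ b u, ← inv_apply' σ b (σ b u), h, map_zero, map_zero]
    · have := e1 (q * q1) (σ b u)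
      rwa [hF.conj_prod, h1p] at this
    · have := e1 q (σ b u)
      rwa [h1q, map_neg] at this

variable {R : Subgroup H}

theorem Setup.four (c : Setup σ R b q) : Four b q :=
  ⟨c.pow_b, c.sq_q, c.comm_q, c.prod_q, c.ne_q⟩

/-- A normal subgroup containing `b` contains `R`. -/
theorem Setup.R_le (c : Setup σ R b q) {N : Subgroup H} [N.Normal] (hb : b ∈ N) : R ≤ N :=
  c.comm.trans ((Subgroup.commutator_mono le_rfl (Subgroup.zpowers_le.2 hb)).trans
    (Subgroup.commutator_le_right R N))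

/-- `R` lies in the kernel of every homomorphism to a commutative group. -/
theorem Setup.R_le_ker (c : Setup σ R b q) {A : Type*} [CommGroup A] (f : H →* A) : R ≤ f.ker :=
  c.comm.trans (Subgroup.commutator_le.2 fun g _ h _ => by
    rw [MonoidHom.mem_ker, commutatorElement_def, map_mul, map_mul, map_mul, map_inv, map_inv,
      mul_comm (f g), mul_inv_cancel_right, mul_inv_cancel])

theorem Setup.conj_mem (c : Setup σ R b q) {r : H} (hr : r ∈ R) (g : H) : g * r * g⁻¹ ∈ R :=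
  c.nR.conj_mem r hr g

theorem Setup.q1_mem (c : Setup σ R b q) : b * q * b⁻¹ ∈ R := c.conj_mem c.mem_q b

/-- An invariant subspace with a nonzero vector is everything. -/
theorem Setup.eq_top (c : Setup σ R b q) {N : Submodule (ZMod 3) V}
    (hN : ∀ h, ∀ v ∈ N, σ h v ∈ N) {v : V} (hv : v ∈ N) (hv0 : v ≠ 0) : N = ⊤ :=
  (c.irr N hN).resolve_left fun h => hv0 ((Submodule.mem_bot _).1 (h ▸ hv))

theorem Setup.eigLine_ne_bot (c : Setup σ R b q) : ∃ v ∈ eigLine σ b q, v ≠ 0 := by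
  obtain ⟨v, hv⟩ : ∃ v, σ q v ≠ v := by
    by_contra h
    push Not at h
    have h1 : q = 1 := c.inj (LinearMap.ext fun v => by rw [h v, map_one]; rfl)
    exact c.ne_q (by rw [h1]; group)
  obtain ⟨w, -, hw0, hw⟩ := c.four.exists_eig ⊤ (fun _ _ _ _ => trivial) (v := v) trivial hv
  exact ⟨w, hw, hw0⟩

variable [Finite V]

theorem Setup.finrank_eigLine (c : Setup σ R b q) :
    Module.finrank (ZMod 3) (eigLine σ b q) ≤ 1 := by
  have hb : Function.Injective (σ b) := Function.LeftInverse.injective (inv_apply' σ b)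
  have h := perm3_bound (σ b) hb (eigLine σ b q) ((eigLine σ b q).map (σ b))
    (((eigLine σ b q).map (σ b)).map (σ b)) (fun x hx => Submodule.mem_map_of_mem hx)
    (fun x hx => Submodule.mem_map_of_mem hx) (by
      rintro x hx _ ⟨y, hy, rfl⟩ _ ⟨_, ⟨z, hz, rfl⟩, rfl⟩ hsum
      obtain ⟨⟨a1, a2⟩, -⟩ := c.four.eig_images hy
      obtain ⟨-, a3, a4⟩ := c.four.eig_images hz
      obtain ⟨hx1, hx2⟩ := mem_eigLine.1 hx
      exact c.four.eig_indep hx1 hx2 a1 a2 a3 a4 hsum)
  have h2 : Module.finrank (ZMod 3) ((eigLine σ b q).map (σ b)) =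
      Module.finrank (ZMod 3) (eigLine σ b q) :=
    (LinearEquiv.finrank_eq (Submodule.equivMapOfInjective _ hb _)).symm
  have := c.rank
  omega

/-- An element commuting with `q` and `bqb⁻¹` acts as a sign on the eigenline. -/
theorem Setup.sq_fix (c : Setup σ R b q) {a : H} (h1 : Commute a q)
    (h2 : Commute a (b * q * b⁻¹)) {v : V} (hv : v ∈ eigLine σ b q) : σ (a * a) v = v := by
  by_cases hv0 : v = 0
  · rw [hv0, map_zero]
  obtain ⟨e1, e2⟩ := mem_eigLine.1 hv
  have hav : σ a v ∈ eigLine σ b q := mem_eigLine.2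
    ⟨by rw [← mul_apply', ← h1.eq, mul_apply', e1], by rw [← mul_apply', ← h2.eq, mul_apply', e2, map_neg]⟩
  have hle : (eigLine σ b q) ≤ Submodule.span (ZMod 3) {v} := by
    refine le_of_eq (Submodule.eq_of_le_of_finrank_le ?_ ?_).symm
    · rwa [Submodule.span_singleton_le_iff_mem]
    · rw [finrank_span_singleton hv0]
      exact c.finrank_eigLine
  obtain ⟨t, ht⟩ := Submodule.mem_span_singleton.1 (hle hav)
  rw [mul_apply', ← ht, map_smul, ← ht, smul_smul]
  rcases zmod_three_cases t with rfl | rfl | rfl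
  · rw [zero_smul] at ht
    exact absurd (by rw [← inv_apply' σ a v, ← ht, map_zero]) hv0
  · rw [mul_one, one_smul]
  · rw [show (-1 : ZMod 3) * -1 = 1 by decide, one_smul]

/-- The subspace fixed by a normal subgroup is invariant. -/
theorem Setup.fixed_eq_top (c : Setup σ R b q) (A : Subgroup H) [hA : A.Normal] {v : V}
    (hv : ∀ a ∈ A, σ a v = v) (hv0 : v ≠ 0) : A = ⊥ := by
  let N : Submodule (ZMod 3) V :=
    { carrier := {w | ∀ a ∈ A, σ a w = w}
      zero_mem' := fun a _ => map_zero _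
      add_mem' := fun {x y} hx hy a ha => by rw [map_add, hx a ha, hy a ha]
      smul_mem' := fun t x hx a ha => by rw [map_smul, hx a ha] }
  have hN : N = ⊤ := c.eq_top (N := N) (fun h w hw a ha => by
    have h1 := hw (h⁻¹ * a * h⁻¹⁻¹) (hA.conj_mem a ha h⁻¹)
    rw [inv_inv, mul_apply', mul_apply'] at h1
    calc σ a (σ h w) = σ h (σ h⁻¹ (σ a (σ h w))) := (apply_inv' σ h _).symm
      _ = σ h w := by rw [h1]) hv hv0
  rw [eq_bot_iff]
  intro a ha
  refine Subgroup.mem_bot.2 (c.inj (LinearMap.ext fun w => ?_))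
  have hw : w ∈ N := hN ▸ Submodule.mem_top
  rw [hw a ha, map_one]
  rfl

/-- An abelian normal subgroup centralised by `q` and `bqb⁻¹` has exponent two. -/
theorem Setup.sq_eq_one (c : Setup σ R b q) (A : Subgroup H) [hA : A.Normal]
    (hAc : ∀ x ∈ A, ∀ y ∈ A, x * y = y * x) (hAq : ∀ a ∈ A, Commute a q)
    (hAq1 : ∀ a ∈ A, Commute a (b * q * b⁻¹)) : ∀ a ∈ A, a * a = 1 := by
  let A2 : Subgroup H :=
    { carrier := {x | ∃ a ∈ A, x = a * a}
      one_mem' := ⟨1, A.one_mem, (one_mul 1).symm⟩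
      mul_mem' := by
        rintro _ _ ⟨a, ha, rfl⟩ ⟨a', ha', rfl⟩
        refine ⟨a * a', A.mul_mem ha ha', ?_⟩
        calc a * a * (a' * a') = a * (a * a') * a' := by group
          _ = a * (a' * a) * a' := by rw [hAc a ha a' ha']
          _ = a * a' * (a * a') := by group
      inv_mem' := by
        rintro _ ⟨a, ha, rfl⟩
        exact ⟨a⁻¹, A.inv_mem ha, mul_inv_rev a a⟩ }
  haveI : A2.Normal := ⟨by
    rintro _ ⟨a, ha, rfl⟩ g
    exact ⟨g * a * g⁻¹, hA.conj_mem a ha g, by group⟩⟩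
  obtain ⟨v, hv, hv0⟩ := c.eigLine_ne_bot
  have h := c.fixed_eq_top A2 (v := v) (by
    rintro _ ⟨a, ha, rfl⟩
    exact c.sq_fix (hAq a ha) (hAq1 a ha) hv) hv0
  intro a ha
  have h1 : a * a ∈ A2 := ⟨a, ha, rfl⟩
  rwa [h, Subgroup.mem_bot] at h1

end H88.Cubic
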