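import Cfsg.Agent.H88.CubicBlock.Monomial
import Cfsg.Agent.H10.PSolvable
import Cfsg.Agent.H1.Cores
import Cfsg.Agent.H1.CoprimeAction

/-!
The block theorem: without a noncentral elementary abelian normal `2`-subgroup there is a
contradiction.
-/

set_option autoImplicit false
set_option linter.style.haveILetI false
set_option linter.unusedSectionVars false

open scoped commutatorElement

namespace H88.Cubic

variable {V : Type*} [AddCommGroup V] [Module (ZMod 3) V] {H : Type*} [Group H]
  {σ : H →* Module.End (ZMod 3) V} {R : Subgroup H} {b q : H}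

theorem conj_cube {G : Type*} [Group G] (b x : G) :
    b * (b * (b * x * b⁻¹) * b⁻¹) * b⁻¹ = b ^ 3 * x * (b ^ 3)⁻¹ := by
  rw [pow_succ, pow_succ, pow_one]; group

theorem cube_eq_one_zmod_five : ∀ t : ZMod 5, t * t * t = 1 → t = 1 := by decide

/-- A solvable nontrivial normal subgroup contains a nontrivial abelian normal subgroup. -/
theorem exists_abelian_normal_le (K : Subgroup H) [K.Normal] (hK : Group.IsSolvable K) (hne : K ≠ ⊥) :
    ∃ A : Subgroup H, A.Normal ∧ A ≤ K ∧ A ≠ ⊥ ∧ ∀ x ∈ A, ∀ y ∈ A, x * y = y * x := by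
  classical
  have hex : ∃ n, derivedSeries K n = ⊥ := hK.solvable
  obtain ⟨m, hm⟩ : ∃ m, Nat.find hex = m + 1 := by
    refine Nat.exists_eq_succ_of_ne_zero fun h0 => ?_
    have h1 := Nat.find_spec hex
    rw [h0, derivedSeries_zero] at h1
    refine hne ((Subgroup.eq_bot_iff_forall _).2 fun x hx => ?_)
    have h2 : (⟨x, hx⟩ : K) ∈ (⊥ : Subgroup K) := h1 ▸ Subgroup.mem_top _
    rw [Subgroup.mem_bot] at h2
    exact congrArg Subtype.val h2
  have hbot : ⁅derivedSeries K m, derivedSeries K m⁆ = ⊥ := by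
    have := Nat.find_spec hex
    rwa [hm, derivedSeries_succ] at this
  have hne' : derivedSeries K m ≠ ⊥ := Nat.find_min hex (by omega)
  refine ⟨(derivedSeries K m).map K.subtype, ?_, Subgroup.map_subtype_le _, ?_, ?_⟩
  · haveI := derivedSeries_characteristic K m
    infer_instance
  · rwa [Ne, Subgroup.map_eq_bot_iff_of_injective _ K.subtype_injective]
  · rintro _ ⟨x, hx, rfl⟩ _ ⟨y, hy, rfl⟩
    have h := Subgroup.commutator_mem_commutator hx hy
    rw [hbot, Subgroup.mem_bot, commutatorElement_eq_one_iff_mul_comm] at h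
    exact congrArg Subtype.val h

variable [Finite V]

/-- Counting fixed vectors of an `r`-group. -/
theorem fixed_count {r : ℕ} [Fact r.Prime] (P : Subgroup H) (hP : IsPGroup r P)
    (W : Submodule (ZMod 3) V) (hW : ∀ g ∈ P, ∀ w ∈ W, σ g w ∈ W) :
    Nat.card W ≡ Nat.card {w : W // ∀ g ∈ P, σ g (w : V) = w} [MOD r] := by
  letI : MulAction P W :=
    { smul := fun g w => ⟨σ g w, hW g g.2 w w.2⟩
      one_smul := fun w => Subtype.ext (by show σ ((1 : P) : H) (w : V) = w; rw [OneMemClass.coe_one, map_one]; rfl)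
      mul_smul := fun g g' w => Subtype.ext (by
        show σ ((g * g' : P) : H) (w : V) = σ g (σ g' (w : V))
        rw [Subgroup.coe_mul, mul_apply']) }
  refine (hP.card_modEq_card_fixedPoints W).trans (congrArg (· % r) (Nat.card_congr
    (Equiv.subtypeEquivRight fun w => ?_)))
  constructor
  · intro h g hg
    exact congrArg Subtype.val (h ⟨g, hg⟩)
  · intro h g
    exact Subtype.ext (h g g.2)

theorem Setup.neg_eigenspace_le (c : Setup σ R b q) :
    Module.finrank (ZMod 3) (LinearMap.ker (σ q + 1)) ≤ 2 := by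
  set L := eigLine σ b q
  have hle : LinearMap.ker (σ q + 1) ≤ L.map (σ b) ⊔ (L.map (σ b)).map (σ b) := by
    intro v hv
    rw [LinearMap.mem_ker, LinearMap.add_apply, Module.End.one_apply, add_eq_zero_iff_eq_neg] at hv
    set q1 := b * q * b⁻¹ with hq1
    have hc : σ q (σ q1 v) = σ q1 (σ q v) := by
      rw [← mul_apply', ← mul_apply', c.comm_q.eq]
    have hsq : σ q1 (σ q1 v) = v := by
      rw [← mul_apply', hq1, show b * q * b⁻¹ * (b * q * b⁻¹) = b * (q * q) * b⁻¹ by group,
        c.sq_q, mul_one, mul_inv_cancel, map_one]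
      rfl
    have e1 : ∀ (g : H) (u : V), σ (b * g * b⁻¹) (σ b u) = σ b (σ g u) := fun g u => by
      rw [← mul_apply', ← mul_apply', inv_mul_cancel_right]
    have e0 : ∀ (g : H) (u : V), σ g (σ b⁻¹ u) = σ b⁻¹ (σ (b * g * b⁻¹) u) := fun g u => by
      rw [← mul_apply', ← mul_apply', ← mul_assoc, ← mul_assoc, inv_mul_cancel, one_mul]
    have hbb : σ b (σ b (σ b v)) = v := by
      rw [← mul_apply', ← mul_apply', show b * b * b = 1 by
        rw [← c.pow_b, pow_succ, pow_two], map_one]
      rfl
    have hmem2 : ∀ w, σ q w = -w → σ q1 w = w → w ∈ L.map (σ b) := fun w h1 h2 => by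
      refine ⟨σ b⁻¹ w, mem_eigLine.2 ⟨?_, ?_⟩, apply_inv' σ b w⟩
      · rw [e0, ← hq1, h2]
      · rw [e0, c.prod_q, mul_apply', h2, h1, map_neg]
    have hmem3 : ∀ w, σ q w = -w → σ q1 w = -w → w ∈ (L.map (σ b)).map (σ b) := fun w h1 h2 => by
      refine ⟨σ b⁻¹ w, hmem2 _ ?_ ?_, apply_inv' σ b w⟩
      · rw [e0, ← hq1, h2, map_neg]
      · rw [e0, c.prod_q, mul_apply', h2, map_neg, h1, neg_neg]
    have hv2 : v = -((v + σ q1 v) + (v - σ q1 v)) := by
      have h3 : v + v + v = 0 := by
        have : (3 : ZMod 3) • v = 0 := by rw [show (3 : ZMod 3) = 0 by decide, zero_smul]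
        rw [show (3 : ZMod 3) = 1 + 1 + 1 by norm_num, add_smul, add_smul, one_smul] at this
        exact this
      rw [show v + σ q1 v + (v - σ q1 v) = v + v by abel]
      exact eq_neg_of_add_eq_zero_right h3
    rw [hv2]
    refine neg_mem (add_mem (Submodule.mem_sup_left (hmem2 _ ?_ ?_))
      (Submodule.mem_sup_right (hmem3 _ ?_ ?_)))
    · rw [map_add, hc, hv, map_neg, neg_add]
    · rw [map_add, hsq, add_comm]
    · rw [map_sub, hc, hv, map_neg]; abel
    · rw [map_sub, hsq, neg_sub]
  refine (Submodule.finrank_mono hle).trans ((Submodule.finrank_add_le_finrank_add_finrank _ _).trans ?_)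
  have h1 := Submodule.finrank_map_le (σ b) L
  have h2 := Submodule.finrank_map_le (σ b) (L.map (σ b))
  have h3 : Module.finrank (ZMod 3) L ≤ 1 := c.finrank_eigLine
  omega

variable [Finite H]

/-- No nontrivial abelian normal subgroup of odd order. -/
theorem Setup.odd_abelian_eq_bot (c : Setup σ R b q) (A : Subgroup H) [hA : A.Normal] (hAR : A ≤ R)
    (hAc : ∀ x ∈ A, ∀ y ∈ A, x * y = y * x) (hodd : (Nat.card A).Coprime 2) : A = ⊥ := by
  classical
  by_contra hA1
  let Fx : Subgroup H → Submodule (ZMod 3) V := fun K =>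
    { carrier := {w | ∀ k ∈ K, σ k w = w}
      zero_mem' := fun k _ => map_zero _
      add_mem' := fun {x y} hx hy k hk => by rw [map_add, hx k hk, hy k hk]
      smul_mem' := fun t x hx k hk => by rw [map_smul, hx k hk] }
  let Mx : Set (Subgroup H) := {K | K ≤ A ∧ Fx K ≠ ⊥ ∧ ∀ K', K ≤ K' → K' ≤ A → Fx K' ≠ ⊥ → K' = K}
  obtain ⟨v₀, hv₀L, hv₀⟩ := c.eigLine_ne_bot
  have hbot : Fx ⊥ ≠ ⊥ := fun h => hv₀ ((Submodule.mem_bot _).1 (h ▸ (show v₀ ∈ Fx ⊥ from
    fun k hk => by rw [Subgroup.mem_bot] at hk; subst hk; rw [map_one]; rfl)))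
  have hMx : ∀ K ≤ A, Fx K ≠ ⊥ → ∃ K' ∈ Mx, K ≤ K' := by
    intro K hK hK0
    obtain ⟨K', hK', hmax⟩ := (Set.toFinite {K' : Subgroup H | K ≤ K' ∧ K' ≤ A ∧ Fx K' ≠ ⊥}).exists_maximal
      ⟨K, le_rfl, hK, hK0⟩
    exact ⟨K', ⟨hK'.2.1, hK'.2.2, fun K'' h1 h2 h3 =>
      le_antisymm (hmax ⟨hK'.1.trans h1, h2, h3⟩ h1) h1⟩, hK'.1⟩
  have hconjFx : ∀ (g : H) (K : Subgroup H) (w : V), w ∈ Fx K →
      σ g w ∈ Fx (K.map (MulAut.conj g).toMonoidHom) := by
    rintro g K w hw _ ⟨k, hk, rfl⟩
    show σ (g * k * g⁻¹) (σ g w) = σ g w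
    rw [← mul_apply', inv_mul_cancel_right, mul_apply', hw k hk]
  have hconjMx : ∀ (g : H), ∀ K ∈ Mx, K.map (MulAut.conj g).toMonoidHom ∈ Mx := by
    rintro g K ⟨hKA, hK0, hmax⟩
    have hcA : ∀ (g : H) (K : Subgroup H), K ≤ A → K.map (MulAut.conj g).toMonoidHom ≤ A := by
      rintro g K hK _ ⟨k, hk, rfl⟩
      exact hA.conj_mem k (hK hk) g
    have hne : ∀ (g : H) (K : Subgroup H), Fx K ≠ ⊥ → Fx (K.map (MulAut.conj g).toMonoidHom) ≠ ⊥ := by
      intro g K h h'
      obtain ⟨w, hw, hw0⟩ := Submodule.exists_mem_ne_zero_of_ne_bot h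
      have h2 := hconjFx g K w hw
      rw [h', Submodule.mem_bot] at h2
      exact hw0 (by rw [← inv_apply' σ g w, h2, map_zero])
    refine ⟨hcA g K hKA, hne g K hK0, fun K' h1 h2 h3 => ?_⟩
    have hback : ∀ K'' : Subgroup H, (K''.map (MulAut.conj g).toMonoidHom).map
        (MulAut.conj g⁻¹).toMonoidHom = K'' := fun K'' => by
      rw [Subgroup.map_map]
      convert Subgroup.map_id K''
      exact MonoidHom.ext fun x => by simp [mul_assoc]
    have h4 := hmax (K'.map (MulAut.conj g⁻¹).toMonoidHom) ((hback K).ge.trans (Subgroup.map_mono h1))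
      (hcA g⁻¹ K' h2) (hne g⁻¹ K' h3)
    rw [← h4, Subgroup.map_map]
    convert (Subgroup.map_id K').symm
    exact MonoidHom.ext fun x => by simp [mul_assoc]
  haveI := Fintype.ofFinite H
  let P : Subgroup H → V → V := fun K w => ∑ k ∈ Finset.univ.filter (· ∈ K), σ k w
  have hPfix : ∀ (K : Subgroup H) (w : V), w ∈ Fx K → P K w = (Nat.card K : ZMod 3) • w := by
    intro K w hw
    rw [Nat.cast_smul_eq_nsmul, show P K w = ∑ k ∈ Finset.univ.filter (· ∈ K), w from
      Finset.sum_congr rfl fun k hk => hw k (Finset.mem_filter.1 hk).2, Finset.sum_const]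
    congr 1
    rw [Nat.card_eq_fintype_card, ← Fintype.card_subtype]
  have hPadd : ∀ (K : Subgroup H) (x y : V), P K (x + y) = P K x + P K y := fun K x y => by
    simp only [P, map_add, Finset.sum_add_distrib]
  have hkill : ∀ K ∈ Mx, ∀ K' ∈ Mx, K ≠ K' → ∀ w ∈ Fx K', P K w = 0 := by
    intro K hK K' hK' hne w hw
    by_contra h0
    have hinK : ∀ k ∈ K, σ k (P K w) = P K w := fun k hk => by
      simp only [P, map_sum]
      refine Finset.sum_nbij' (fun j => k * j) (fun j => k⁻¹ * j) ?_ ?_ ?_ ?_ ?_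
      · intro j hj
        simpa using K.mul_mem hk (Finset.mem_filter.1 hj).2
      · intro j hj
        simpa using K.mul_mem (K.inv_mem hk) (Finset.mem_filter.1 hj).2
      · intro j _; simp
      · intro j _; simp
      · intro j _; rw [mul_apply']
    have hinK' : ∀ k ∈ K', σ k (P K w) = P K w := fun k hk => by
      simp only [P, map_sum]
      refine Finset.sum_congr rfl fun j hj => ?_
      rw [← mul_apply', hAc k (hK'.1 hk) j (hK.1 (Finset.mem_filter.1 hj).2), mul_apply', hw k hk]
    have hsup : P K w ∈ Fx (K ⊔ K') := by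
      let U : Subgroup H :=
        { carrier := {g | σ g (P K w) = P K w}
          one_mem' := by show σ 1 _ = _; rw [map_one]; rfl
          mul_mem' := fun {x y} hx hy => by
            show σ (x * y) _ = _; rw [mul_apply', hy, hx]
          inv_mem' := fun {x} hx => by
            show σ x⁻¹ _ = _
            conv_lhs => rw [← hx]
            exact inv_apply' σ x _ }
      exact fun g hg => (sup_le (show K ≤ U from hinK) (show K' ≤ U from hinK')) hg
    have hne0 : Fx (K ⊔ K') ≠ ⊥ := fun h => h0 ((Submodule.mem_bot _).1 (h ▸ hsup))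
    exact hne ((hK.2.2 _ le_sup_left (sup_le hK.1 hK'.1) hne0).symm.trans
      (hK'.2.2 _ le_sup_right (sup_le hK.1 hK'.1) hne0))
  have hcard3 : ∀ K ≤ A, (Nat.card K : ZMod 3) ≠ 0 := fun K hK h => by
    replace h := (ZMod.natCast_eq_zero_iff _ _).1 h
    have h1 := h.trans (Subgroup.card_dvd_of_le (hK.trans hAR))
    exact Nat.not_prime_one ((Nat.eq_one_of_dvd_coprimes c.cop h1 dvd_rfl) ▸ Nat.prime_three)
  have hproj : ∀ K ∈ Mx, ∀ K' ∈ Mx, ∀ K'' ∈ Mx, K ≠ K' → K ≠ K'' →
      ∀ x ∈ Fx K, ∀ y ∈ Fx K', ∀ z ∈ Fx K'', x + y + z = 0 → x = 0 := by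
    intro K hK K' hK' K'' hK'' h1 h2 x hx y hy z hz hsum
    have h3 := congrArg (P K) hsum
    rw [hPadd, hPadd, hPfix K x hx, hkill K hK K' hK' h1 y hy, hkill K hK K'' hK'' h2 z hz, add_zero,
      add_zero, show P K 0 = 0 by simp [P]] at h3
    exact (smul_eq_zero.1 h3).resolve_left (hcard3 K hK.1)
  set cb := (MulAut.conj b).toMonoidHom with hcb
  by_cases hmove : ∃ K ∈ Mx, K.map cb ≠ K
  · obtain ⟨K, hK, hKne⟩ := hmove
    have hK2 : (K.map cb).map cb ∈ Mx := hconjMx b _ (hconjMx b K hK)
    have hK1 : K.map cb ∈ Mx := hconjMx b K hK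
    have hcycle : ((K.map cb).map cb).map cb = K := by
      rw [Subgroup.map_map, Subgroup.map_map]
      convert Subgroup.map_id K
      refine MonoidHom.ext fun x => ?_
      show b * (b * (b * x * b⁻¹) * b⁻¹) * b⁻¹ = x
      calc b * (b * (b * x * b⁻¹) * b⁻¹) * b⁻¹ = b ^ 3 * x * (b ^ 3)⁻¹ := conj_cube b x
        _ = x := by rw [c.pow_b, one_mul, inv_one, mul_one]
    have hinjm : Function.Injective (Subgroup.map cb) := Subgroup.map_injective (MulAut.conj b).injective
    have hne12 : (K.map cb).map cb ≠ K.map cb := fun h => hKne (hinjm h)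
    have hne02 : (K.map cb).map cb ≠ K := fun h => hKne (by
      conv_rhs => rw [← hcycle]
      rw [h])
    have hbinj : Function.Injective (σ b) := Function.LeftInverse.injective (inv_apply' σ b)
    have h := perm3_bound (σ b) hbinj (Fx K) (Fx (K.map cb)) (Fx ((K.map cb).map cb))
      (fun w hw => hconjFx b K w hw) (fun w hw => hconjFx b _ w hw) (fun x hx y hy z hz hsum => by
        have x0 := hproj K hK _ hK1 _ hK2 hKne.symm hne02.symm x hx y hy z hz hsum
        have y0 := hproj _ hK1 K hK _ hK2 hKne hne12.symm y hy x hx z hz (by rw [← hsum]; abel)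
        exact ⟨x0, y0, by rwa [x0, y0, zero_add, zero_add] at hsum⟩)
    have hmono : Module.finrank (ZMod 3) (Fx K) ≤ Module.finrank (ZMod 3) (Fx (K.map cb)) := by
      rw [LinearEquiv.finrank_eq (Submodule.equivMapOfInjective _ hbinj (Fx K))]
      refine Submodule.finrank_mono ?_
      rintro _ ⟨w, hw, rfl⟩
      exact hconjFx b K w hw
    have := c.rank
    obtain ⟨w, hw, hw0⟩ := Submodule.exists_mem_ne_zero_of_ne_bot hK.2.1
    have hline : Fx K ≤ Submodule.span (ZMod 3) {w} := by
      refine le_of_eq (Submodule.eq_of_le_of_finrank_le ?_ ?_).symm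
      · rwa [Submodule.span_singleton_le_iff_mem]
      · rw [finrank_span_singleton hw0]; omega
    refine hA1 (c.fixed_eq_top A (v := w) (fun a ha => ?_) hw0)
    have haw : σ a w ∈ Fx K := fun k hk => by
      rw [← mul_apply', hAc k (hK.1 hk) a ha, mul_apply', hw k hk]
    obtain ⟨t, ht⟩ := Submodule.mem_span_singleton.1 (hline haw)
    rcases zmod_three_cases t with rfl | rfl | rfl
    · rw [zero_smul] at ht
      exact absurd (by rw [← inv_apply' σ a w, ← ht, map_zero]) hw0
    · rw [← ht, one_smul]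
    · rw [neg_one_smul] at ht
      exfalso
      have hpow : ∀ i : ℕ, σ (a ^ i) w = ((-1 : ZMod 3) ^ i) • w := fun i => by
        induction i with
        | zero => rw [pow_zero, map_one, pow_zero, one_smul]; rfl
        | succ i ih => rw [pow_succ', mul_apply', ih, map_smul, ← ht, smul_neg, pow_succ', neg_one_mul, neg_smul]
      have hoddn : Odd (orderOf a) := Nat.coprime_two_right.1
        (Nat.Coprime.coprime_dvd_left (Subgroup.orderOf_dvd_natCard A ha) hodd)
      have h1 := hpow (orderOf a)
      rw [pow_orderOf_eq_one, map_one, hoddn.neg_one_pow, neg_one_smul] at h1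
      exact hw0 (eq_zero_of_eq_neg h1)
  push Not at hmove
  have hKbot : ∀ K ∈ Mx, K = ⊥ := by
    let NN : Subgroup H :=
      { carrier := {g | ∀ K ∈ Mx, K.map (MulAut.conj g).toMonoidHom = K}
        one_mem' := fun K _ => by
          convert Subgroup.map_id K
          exact MonoidHom.ext fun x => by simp
        mul_mem' := fun {x y} hx hy K hK => by
          conv_rhs => rw [← hx K hK, ← hy K hK]
          rw [Subgroup.map_map]
          congr 1
          exact MonoidHom.ext fun z => by simp [mul_assoc]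
        inv_mem' := fun {x} hx K hK => by
          conv_lhs => rw [← hx K hK]
          rw [Subgroup.map_map]
          convert Subgroup.map_id K
          exact MonoidHom.ext fun z => by simp [mul_assoc] }
    haveI : NN.Normal := ⟨fun n hn g K hK => by
      have h1 := hn _ (hconjMx g⁻¹ K hK)
      rw [Subgroup.map_map] at h1
      have h2 := congrArg (Subgroup.map (MulAut.conj g).toMonoidHom) h1
      rw [Subgroup.map_map, Subgroup.map_map] at h2
      convert h2 using 2
      · exact MonoidHom.ext fun z => by simp [mul_assoc]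
      · convert (Subgroup.map_id K).symm
        exact MonoidHom.ext fun z => by simp [mul_assoc]⟩
    have hbN : b ∈ NN := hmove
    intro K hK
    haveI : K.Normal := ⟨fun k hk g => by
      obtain ⟨r, hr, i, rfl⟩ := c.gen g
      have hg : r * b ^ i ∈ NN := NN.mul_mem (c.R_le hbN hr) (NN.pow_mem hbN i)
      exact (hg K hK).le ⟨k, hk, rfl⟩⟩
    obtain ⟨w, hw, hw0⟩ := Submodule.exists_mem_ne_zero_of_ne_bot hK.2.1
    exact c.fixed_eq_top K hw hw0
  have hfpf : ∀ a ∈ A, ∀ w : V, w ≠ 0 → σ a w = w → a = 1 := by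
    intro a ha w hw0 hw
    have hz : w ∈ Fx (Subgroup.zpowers a) := fun k hk => by
      obtain ⟨j, rfl⟩ := (mem_powers_iff_mem_zpowers.2 hk : k ∈ Submonoid.powers a)
      induction j with
      | zero => simp only [pow_zero, map_one]; rfl
      | succ j ih => simp only [pow_succ, mul_apply', hw]; exact ih (by simp)
    obtain ⟨K', hK', hle⟩ := hMx _ (Subgroup.zpowers_le.2 ha)
      (fun h => hw0 ((Submodule.mem_bot _).1 (h ▸ hz)))
    exact Subgroup.mem_bot.1 (hKbot K' hK' ▸ hle (Subgroup.mem_zpowers a))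
  -- an element commuting with `q`
  obtain ⟨a, ha, ha1, haq⟩ : ∃ a ∈ A, a ≠ 1 ∧ Commute a q := by
    obtain ⟨a, ha, ha1⟩ := A.bot_or_exists_ne_one.resolve_left hA1
    have hinvol : ∀ t : H, t * t = 1 → (∀ x ∈ A, t * x * t⁻¹ ∈ A) →
        ∀ x ∈ A, x * (t * x * t⁻¹) ≠ 1 → ∃ y ∈ A, y ≠ 1 ∧ Commute y t := by
      intro t ht htA x hx hne
      refine ⟨_, A.mul_mem hx (htA x hx), hne, ?_⟩
      have hti : t⁻¹ = t := inv_eq_of_mul_eq_one_right ht
      show x * (t * x * t⁻¹) * t = t * (x * (t * x * t⁻¹))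
      calc x * (t * x * t⁻¹) * t = x * (t * x) := by group
        _ = (t * x * t⁻¹) * x * t := by
          rw [← hAc x hx _ (htA x hx)]; group
        _ = t * (x * (t * x * t⁻¹)) := by rw [hti]; group
    have htr : ∀ y ∈ A, y ≠ 1 → Commute y (b * q * b⁻¹) → ∃ a ∈ A, a ≠ 1 ∧ Commute a q := by
      intro y hy hy1 hyc
      refine ⟨b⁻¹ * y * b⁻¹⁻¹, hA.conj_mem y hy b⁻¹, fun h => hy1 (by
        have h' := congrArg (fun z => b * z * b⁻¹) h
        simpa [mul_assoc] using h'), ?_⟩
      have := hyc.map (MulAut.conj b⁻¹).toMonoidHom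
      simpa [mul_assoc] using this
    by_cases h1 : a * (q * a * q⁻¹) = 1
    swap
    · exact hinvol q c.sq_q (fun x hx => hA.conj_mem x hx q) a ha h1
    by_cases h2 : a * (b * q * b⁻¹ * a * (b * q * b⁻¹)⁻¹) = 1
    swap
    · obtain ⟨y, hy, hy1, hyc⟩ := hinvol _ (by
        rw [show b * q * b⁻¹ * (b * q * b⁻¹) = b * (q * q) * b⁻¹ by group, c.sq_q, mul_one,
          mul_inv_cancel]) (fun x hx => hA.conj_mem x hx _) a ha h2
      exact htr y hy hy1 hyc
    refine ⟨b * a * b⁻¹, hA.conj_mem a ha b, fun h => ha1 (by simpa using h), ?_⟩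
    have e1 : q * a * q⁻¹ = a⁻¹ := eq_inv_of_mul_eq_one_right h1
    have e2 : b * q * b⁻¹ * a * (b * q * b⁻¹)⁻¹ = a⁻¹ := eq_inv_of_mul_eq_one_right h2
    have e3 : Commute a (q * (b * q * b⁻¹)) := by
      have h3 : (q * (b * q * b⁻¹)) * a * (q * (b * q * b⁻¹))⁻¹ = a := by
        calc (q * (b * q * b⁻¹)) * a * (q * (b * q * b⁻¹))⁻¹
            = q * (b * q * b⁻¹ * a * (b * q * b⁻¹)⁻¹) * q⁻¹ := by group
          _ = (q * a * q⁻¹)⁻¹ := by rw [e2]; group
          _ = a := by rw [e1, inv_inv]
      exact (mul_inv_eq_iff_eq_mul.1 h3).symm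
    have e4 := e3.map (MulAut.conj b).toMonoidHom
    change Commute (b * a * b⁻¹) (b * (q * (b * q * b⁻¹)) * b⁻¹) at e4
    rwa [c.four.conj_prod] at e4
  -- a prime order element
  obtain ⟨r, hr, hrd⟩ := Nat.exists_prime_and_dvd (fun h => ha1 (orderOf_eq_one_iff.1 h))
  haveI := Fact.mk hr
  set y := a ^ (orderOf a / r)
  have hy : orderOf y = r := orderOf_pow_orderOf_div (orderOf_pos a).ne' hrd
  have hyA : y ∈ A := A.pow_mem ha _
  have hyq : Commute y q := haq.pow_left _
  have hy1 : y ≠ 1 := fun h => hr.ne_one (by rw [← hy, h, orderOf_one])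
  have hr2 : r ≠ 2 := by
    rintro rfl
    have := Nat.eq_one_of_dvd_coprimes hodd (hrd.trans (Subgroup.orderOf_dvd_natCard A ha)) dvd_rfl
    omega
  set W := LinearMap.ker (σ q + 1)
  have hWinv : ∀ g ∈ Subgroup.zpowers y, ∀ w ∈ W, σ g w ∈ W := by
    intro g hg w hw
    obtain ⟨i, rfl⟩ := hg
    have hc : Commute (y ^ i) q := hyq.zpow_left i
    rw [LinearMap.mem_ker, LinearMap.add_apply, Module.End.one_apply, add_eq_zero_iff_eq_neg] at hw ⊢
    rw [← mul_apply', ← hc.eq, mul_apply', hw, map_neg]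
  have hcount := fixed_count (σ := σ) (r := r) (Subgroup.zpowers y)
    (IsPGroup.of_card (n := 1) (by rw [Nat.card_zpowers, hy, pow_one])) W hWinv
  have hone : Nat.card {w : W // ∀ g ∈ Subgroup.zpowers y, σ g (w : V) = w} = 1 := by
    rw [Nat.card_eq_one_iff_unique]
    refine ⟨⟨fun w w' => ?_⟩, ⟨⟨0, fun g _ => map_zero _⟩⟩⟩
    have hz : ∀ u : {w : W // ∀ g ∈ Subgroup.zpowers y, σ g (w : V) = w}, ((u.1 : W) : V) = 0 :=
      fun u => by
        by_contra h
        exact hy1 (hfpf y hyA _ h (u.2 y (Subgroup.mem_zpowers y)))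
    exact Subtype.ext (Subtype.ext ((hz w).trans (hz w').symm))
  rw [hone, Module.natCard_eq_pow_finrank (K := ZMod 3), Nat.card_zmod] at hcount
  have hWd : Module.finrank (ZMod 3) W ≤ 2 := c.neg_eigenspace_le
  have hW0 : W ≠ ⊥ := by
    obtain ⟨⟨e1, -⟩, -⟩ := c.four.eig_images hv₀L
    intro h
    have h1 : σ b v₀ ∈ W := by
      rw [LinearMap.mem_ker, LinearMap.add_apply, Module.End.one_apply, e1, neg_add_cancel]
    rw [h, Submodule.mem_bot] at h1
    exact hv₀ (by rw [← inv_apply' σ b v₀, h1, map_zero])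
  have hWd1 : 1 ≤ Module.finrank (ZMod 3) W := Submodule.one_le_finrank_iff.2 hW0
  have h8 : r ∣ 3 ^ Module.finrank (ZMod 3) W - 1 :=
    (Nat.modEq_iff_dvd' (Nat.one_le_pow _ _ (by norm_num))).1 hcount.symm
  have h2 : r ∣ 2 := by
    rcases (by omega : Module.finrank (ZMod 3) W = 1 ∨ Module.finrank (ZMod 3) W = 2) with h | h <;>
      rw [h] at h8
    · simpa using h8
    · exact hr.dvd_of_dvd_pow (show r ∣ 2 ^ 3 by simpa using h8)
  exact hr2 ((Nat.prime_dvd_prime_iff_eq hr Nat.prime_two).1 h2)

theorem Setup.block (c : Setup σ R b q) : Goal R := by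
  classical
  by_cases hM : ∃ A : Subgroup H, A.Normal ∧ A ≤ R ∧ (∀ x ∈ A, ∀ y ∈ A, x * y = y * x) ∧
      (∀ a ∈ A, a * a = 1) ∧ ∃ a ∈ A, (∃ v, σ a v ≠ v) ∧ ∃ v, σ a v ≠ -v
  · obtain ⟨A, hA, hAR, hAc, hA2, a, ha, h1, h2⟩ := hM
    haveI := hA
    exact c.monomial A hAR hAc hA2 ha h1 h2
  exfalso
  push Not at hM
  have hscal : ∀ A : Subgroup H, A.Normal → A ≤ R → (∀ x ∈ A, ∀ y ∈ A, x * y = y * x) →
      (∀ a ∈ A, a * a = 1) → ∀ a ∈ A, a = 1 ∨ ∀ v, σ a v = -v := by
    intro A hA hAR hAc hA2 a ha
    by_cases h : ∀ v, σ a v = v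
    · exact Or.inl (c.inj (LinearMap.ext fun v => by rw [h v, map_one]; rfl))
    push Not at h
    exact Or.inr (hM A hA hAR hAc hA2 a ha h)
  have hcentral : ∀ a : H, (a = 1 ∨ ∀ v, σ a v = -v) → ∀ h : H, a * h = h * a := by
    rintro a (rfl | ha) h
    · rw [one_mul, mul_one]
    · exact c.inj (LinearMap.ext fun v => by rw [mul_apply', mul_apply', ha, ha, map_neg])
  have htwo : ∀ a a' : H, (a = 1 ∨ ∀ v, σ a v = -v) → (a' = 1 ∨ ∀ v, σ a' v = -v) →
      a ≠ 1 → a' ≠ 1 → a = a' := fun a a' ha ha' h h' => c.inj (LinearMap.ext fun v => by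
        rw [ha.resolve_left h, ha'.resolve_left h'])
  have hscalsq : ∀ a : H, (a = 1 ∨ ∀ v, σ a v = -v) → a * a = 1 := by
    rintro a (rfl | ha)
    · rw [one_mul]
    · exact c.inj (LinearMap.ext fun v => by rw [mul_apply', ha, ha, neg_neg, map_one]; rfl)
  -- abelian normal `2`-subgroups consist of scalars
  have habel : ∀ A : Subgroup H, A.Normal → A ≤ R → (∀ x ∈ A, ∀ y ∈ A, x * y = y * x) →
      IsPGroup 2 A → ∀ a ∈ A, a = 1 ∨ ∀ v, σ a v = -v := by
    intro A hA hAR hAc hA2
    suffices h : ∀ a ∈ A, a * a = 1 from hscal A hA hAR hAc h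
    by_contra hnot
    push Not at hnot
    obtain ⟨x, hxA, hx2⟩ := hnot
    obtain ⟨k, hk⟩ := hA2 ⟨x, hxA⟩
    have hk' : x ^ 2 ^ k = 1 := congrArg Subtype.val hk
    -- an element of order four
    obtain ⟨y, hyA, hy4, hy2⟩ : ∃ y ∈ A, (y * y) * (y * y) = 1 ∧ y * y ≠ 1 := by
      clear hk
      induction k generalizing x with
      | zero => exact absurd (by rw [show x = 1 by simpa using hk']; exact one_mul 1) hx2
      | succ k ih =>
        by_cases h4 : x * x * (x * x) = 1
        · exact ⟨x, hxA, h4, hx2⟩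
        · refine ih (x * x) (A.mul_mem hxA hxA) h4 ?_
          rw [← pow_two, ← pow_mul, ← pow_succ']
          exact hk'
    let A2 : Subgroup H :=
      { carrier := {z | z ∈ A ∧ z * z = 1}
        one_mem' := ⟨A.one_mem, one_mul 1⟩
        mul_mem' := by
          rintro s t ⟨hs, hs2⟩ ⟨ht, ht2⟩
          refine ⟨A.mul_mem hs ht, ?_⟩
          calc s * t * (s * t) = s * (t * s) * t := by group
            _ = s * (s * t) * t := by rw [hAc t ht s hs]
            _ = (s * s) * (t * t) := by group
            _ = 1 := by rw [hs2, ht2, one_mul]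
        inv_mem' := by
          rintro s ⟨hs, hs2⟩
          exact ⟨A.inv_mem hs, by rw [← mul_inv_rev, hs2, inv_one]⟩ }
    haveI : A2.Normal := ⟨fun z hz g => ⟨hA.conj_mem z hz.1 g, by
      rw [show g * z * g⁻¹ * (g * z * g⁻¹) = g * (z * z) * g⁻¹ by group, hz.2, mul_one, mul_inv_cancel]⟩⟩
    have hA2s : ∀ z ∈ A2, z = 1 ∨ ∀ v, σ z v = -v := hscal A2 inferInstance (fun z hz => hAR hz.1)
      (fun s hs t ht => hAc s hs.1 t ht.1) fun z hz => hz.2
    let A4 : Subgroup H :=
      { carrier := {z | z ∈ A ∧ z * z * (z * z) = 1}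
        one_mem' := ⟨A.one_mem, by simp⟩
        mul_mem' := by
          rintro s t ⟨hs, hs2⟩ ⟨ht, ht2⟩
          refine ⟨A.mul_mem hs ht, ?_⟩
          have hst : s * t * (s * t) = (s * s) * (t * t) := by
            calc s * t * (s * t) = s * (t * s) * t := by group
              _ = s * (s * t) * t := by rw [hAc t ht s hs]
              _ = (s * s) * (t * t) := by group
          rw [hst]
          calc s * s * (t * t) * (s * s * (t * t)) = s * s * ((t * t) * (s * s)) * (t * t) := by group
            _ = s * s * ((s * s) * (t * t)) * (t * t) := by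
              rw [hAc (t * t) (A.mul_mem ht ht) (s * s) (A.mul_mem hs hs)]
            _ = (s * s * (s * s)) * ((t * t) * (t * t)) := by group
            _ = 1 := by rw [hs2, ht2, one_mul]
        inv_mem' := by
          rintro s ⟨hs, hs2⟩
          exact ⟨A.inv_mem hs, by rw [← mul_inv_rev, ← mul_inv_rev, hs2, inv_one]⟩ }
    haveI : A4.Normal := ⟨fun z hz g => ⟨hA.conj_mem z hz.1 g, by
      rw [show g * z * g⁻¹ * (g * z * g⁻¹) * (g * z * g⁻¹ * (g * z * g⁻¹)) =
        g * (z * z * (z * z)) * g⁻¹ by group, hz.2, mul_one, mul_inv_cancel]⟩⟩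
    -- the elements of order four
    have hshape : ∀ z ∈ A4, z * z ≠ 1 → z = y ∨ z = y⁻¹ := by
      intro z hz hz2
      have hys : y * y = 1 ∨ ∀ v, σ (y * y) v = -v := hA2s _ ⟨A.mul_mem hyA hyA, hy4⟩
      have hzs : z * z = 1 ∨ ∀ v, σ (z * z) v = -v := hA2s _ ⟨A.mul_mem hz.1 hz.1, hz.2⟩
      have hzy : z * z = y * y := htwo _ _ hzs hys hz2 hy2
      have hmem : z * y ∈ A2 := ⟨A.mul_mem hz.1 hyA, by
        calc z * y * (z * y) = z * (y * z) * y := by group
          _ = z * (z * y) * y := by rw [hAc y hyA z hz.1]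
          _ = (z * z) * (y * y) := by group
          _ = 1 := by rw [hzy, hy4]⟩
      rcases eq_or_ne (z * y) 1 with h | h
      · exact Or.inr (eq_inv_of_mul_eq_one_left h)
      · exact Or.inl (mul_right_cancel (b := y) (htwo _ _ (hA2s _ hmem) hys h hy2))
    have hy4' : y ∈ A4 := ⟨hyA, hy4⟩
    have hby : b * y * b⁻¹ = y := by
      have hmem : b * y * b⁻¹ ∈ A4 := (inferInstance : A4.Normal).conj_mem y hy4' b
      have hne : b * y * b⁻¹ * (b * y * b⁻¹) ≠ 1 := fun h => hy2 (by
        rw [show b * y * b⁻¹ * (b * y * b⁻¹) = b * (y * y) * b⁻¹ by group] at h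
        simpa using h)
      rcases hshape _ hmem hne with h | h
      · exact h
      · exfalso
        have h' : b * y⁻¹ * b⁻¹ = y := by
          rw [show b * y⁻¹ * b⁻¹ = (b * y * b⁻¹)⁻¹ by group, h, inv_inv]
        have h3 : b ^ 3 * y * (b ^ 3)⁻¹ = y⁻¹ := by rw [← conj_cube, h, h', h]
        exact hy2 (mul_eq_one_iff_eq_inv.2 (by simpa [c.pow_b] using h3))
    have hbC : b ∈ Subgroup.centralizer (A4 : Set H) := Subgroup.mem_centralizer_iff.2 fun z hz => by
      by_cases hz2 : z * z = 1
      · exact hcentral z (hA2s z ⟨hz.1, hz2⟩) b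
      have hyb : Commute b y := mul_inv_eq_iff_eq_mul.1 hby
      rcases hshape z hz hz2 with h | h <;> rw [h]
      · exact hyb.eq.symm
      · exact hyb.inv_right.eq.symm
    have hR4 : R ≤ Subgroup.centralizer (A4 : Set H) := c.R_le hbC
    have := c.sq_eq_one A4 (fun s hs t ht => hAc s hs.1 t ht.1)
      (fun z hz => (Subgroup.mem_centralizer_iff.1 (hR4 c.mem_q) z hz))
      (fun z hz => (Subgroup.mem_centralizer_iff.1 (hR4 c.q1_mem) z hz)) y hy4'
    exact hy2 this
  -- the Fitting subgroup
  haveI := c.nR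
  haveI : Fact (Nat.Prime 2) := ⟨Nat.prime_two⟩
  haveI := H1.pCore_normal' 2 R
  haveI := H1.pCore_characteristic 2 R
  haveI := H1.pPrimeCore_characteristic 2 R
  haveI : Group.IsSolvable R := c.sol
  have hodd : Cfsg.pPrimeCore 2 R = ⊥ := by
    by_contra h
    obtain ⟨A, hA, hAK, hA1, hAc⟩ := exists_abelian_normal_le ((Cfsg.pPrimeCore 2 R).map R.subtype)
      (Group.isSolvable_of_isSolvable_injective (f := Subgroup.inclusion (Subgroup.map_subtype_le _))
        (Subgroup.inclusion_injective _))
      (by rwa [Ne, Subgroup.map_eq_bot_iff_of_injective _ R.subtype_injective])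
    haveI := hA
    refine hA1 (c.odd_abelian_eq_bot A (hAK.trans (Subgroup.map_subtype_le _)) hAc
      (Nat.Coprime.coprime_dvd_left ((Subgroup.card_dvd_of_le hAK).trans (dvd_of_eq ?_))
        (H1.card_pPrimeCore_coprime 2 R)))
    exact Subgroup.card_map_of_injective R.subtype_injective
  set F0 := Cfsg.pCore 2 R with hF0
  set F := F0.map R.subtype with hF
  haveI hFn : F.Normal := by rw [hF]; infer_instance
  have hFp : IsPGroup 2 F := (H1.isPGroup_pCore 2 R).map _
  have hFR : F ≤ R := Subgroup.map_subtype_le _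
  have hCF : ∀ r ∈ R, (∀ f ∈ F, f * r = r * f) → r ∈ F := fun r hr h =>
    ⟨⟨r, hr⟩, H10.centralizer_pCore_le H10.isPSolvable_of_isSolvable hodd
      (Subgroup.mem_centralizer_iff.2 fun f hf => Subtype.ext (h f ⟨f, hf, rfl⟩)), rfl⟩
  -- `F` has class at most two
  have hcenter : ∀ g : F, g ∈ Subgroup.center F → ((g : H) = 1 ∨ ∀ v, σ (g : H) v = -v) := fun g hg =>
    habel ((Subgroup.center F).map F.subtype) inferInstance ((Subgroup.map_subtype_le _).trans hFR)
      (by
        rintro _ ⟨s, hs, rfl⟩ _ ⟨t, _, rfl⟩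
        exact congrArg Subtype.val (Subgroup.mem_center_iff.1 hs t).symm)
      ((hFp.to_subgroup _).map _) g ⟨g, hg, rfl⟩
  have hclass : commutator F ≤ Subgroup.center F := by
    set Z2 := Subgroup.upperCentralSeries F 2
    set U := commutator F ⊓ Z2
    have hZ2 : ⁅Z2, (⊤ : Subgroup F)⁆ ≤ Subgroup.center F := by
      rw [Subgroup.commutator_le]
      intro x hx y _
      have := (Subgroup.mem_upperCentralSeries_succ_iff (n := 1) (x := x)).1 hx y
      simpa [Subgroup.upperCentralSeries_one, commutatorElement_def] using this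
    have hrot : ⁅commutator F, Z2⁆ = ⊥ := by
      have h1 : ⁅⁅Z2, (⊤ : Subgroup F)⁆, (⊤ : Subgroup F)⁆ = ⊥ := by
        rw [Subgroup.commutator_eq_bot_iff_le_centralizer]
        exact hZ2.trans (by rw [Subgroup.coe_top, Subgroup.centralizer_univ])
      rw [commutator_def]
      refine Subgroup.commutator_commutator_eq_bot_of_rotate ?_ h1
      rwa [Subgroup.commutator_comm (⊤ : Subgroup F) Z2]
    haveI : U.Characteristic := by infer_instance
    have hUscal : ∀ g : F, g ∈ U → g ∈ Subgroup.center F := by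
      intro g hg
      have := habel (U.map F.subtype) inferInstance ((Subgroup.map_subtype_le _).trans hFR)
        (by
          rintro _ ⟨s, hs, rfl⟩ _ ⟨t, ht, rfl⟩
          have h1 := Subgroup.commutator_mem_commutator (H₁ := commutator F) (H₂ := Z2) hs.1 ht.2
          rw [hrot, Subgroup.mem_bot, commutatorElement_eq_one_iff_mul_comm] at h1
          exact congrArg Subtype.val h1)
        ((hFp.to_subgroup _).map _) g ⟨g, hg, rfl⟩
      exact Subgroup.mem_center_iff.2 fun h => Subtype.ext (hcentral _ this h).symm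
    by_contra hnot
    set Z := Subgroup.center F
    have hne : (commutator F).map (QuotientGroup.mk' Z) ≠ ⊥ := by
      rwa [Ne, Subgroup.map_eq_bot_iff, QuotientGroup.ker_mk']
    haveI : ((commutator F).map (QuotientGroup.mk' Z)).Normal :=
      Subgroup.Normal.map inferInstance _ (QuotientGroup.mk'_surjective Z)
    obtain ⟨w, hw, hw1⟩ := (Subgroup.bot_or_exists_ne_one _).resolve_left
      (H6.inf_center_ne_bot (hFp.to_quotient Z) hne)
    obtain ⟨f, hf, rfl⟩ := hw.1
    refine hw1 ((QuotientGroup.eq_one_iff f).2 (hUscal f ⟨hf, ?_⟩))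
    refine (Subgroup.mem_upperCentralSeries_succ_iff (n := 1) (x := f)).2 fun y => ?_
    rw [Subgroup.upperCentralSeries_one, ← QuotientGroup.eq_one_iff]
    show QuotientGroup.mk' Z (f * y * f⁻¹ * y⁻¹) = 1
    rw [map_mul, map_mul, map_mul, map_inv, map_inv, mul_inv_eq_one, mul_inv_eq_iff_eq_mul]
    exact (Subgroup.mem_center_iff.1 hw.2 _).symm
  have hcomm : ∀ x ∈ F, ∀ y ∈ F, ⁅x, y⁆ = 1 ∨ ∀ v, σ ⁅x, y⁆ v = -v := fun x hx y hy =>
    hcenter ⁅(⟨x, hx⟩ : F), ⟨y, hy⟩⁆ (hclass (by
      rw [commutator_def]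
      exact Subgroup.commutator_mem_commutator (Subgroup.mem_top _) (Subgroup.mem_top _)))
  have hswap : ∀ x ∈ F, ∀ y ∈ F, x * y = y * x * ⁅x, y⁆ ∧ ⁅y, x⁆ = ⁅x, y⁆ := fun x hx y hy => by
    have hc := hcomm x hx y hy
    refine ⟨?_, by rw [← commutatorElement_inv]; exact inv_eq_of_mul_eq_one_right (hscalsq _ hc)⟩
    rw [← hcentral _ hc (y * x), commutatorElement_def]
    group
  have hFsq : ∀ x ∈ F, x * x = 1 ∨ ∀ v, σ (x * x) v = -v := fun x hx => by
    refine hcenter ⟨x * x, F.mul_mem hx hx⟩ (Subgroup.mem_center_iff.2 fun g => Subtype.ext ?_)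
    show (g : H) * (x * x) = x * x * g
    have hc := hcomm x hx g g.2
    have h1 := (hswap x hx g g.2).1
    set k := ⁅x, (g : H)⁆
    symm
    calc x * x * (g : H) = x * (g * x * k) := by rw [mul_assoc, h1]
      _ = (x * g) * x * k := by group
      _ = (g * x * k) * x * k := by rw [← h1]
      _ = g * x * (k * x) * k := by group
      _ = g * x * (x * k) * k := by rw [hcentral k hc x]
      _ = g * (x * x) * (k * k) := by group
      _ = g * (x * x) := by rw [hscalsq k hc, mul_one]
  have hFb : ∀ x ∈ F, b * x * b⁻¹ ∈ F := fun x hx => hFn.conj_mem x hx b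
  -- a displacement squaring to `-1`
  obtain ⟨x, hx, hxne⟩ : ∃ x ∈ F, x * (b * x * b⁻¹) ≠ b * x * b⁻¹ * x := by
    by_contra hall
    push Not at hall
    have hfix : ∀ y ∈ F, b * y * b⁻¹ = y := by
      intro y hy
      set y' := b * y * b⁻¹ with hy'
      set y'' := b * y' * b⁻¹ with hy''
      have hy'F : y' ∈ F := hFb y hy
      have hy''F : y'' ∈ F := hFb y' hy'F
      have hback : b * y'' * b⁻¹ = y := by
        calc b * y'' * b⁻¹ = b ^ 3 * y * (b ^ 3)⁻¹ := by rw [hy'', hy']; exact conj_cube b y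
          _ = y := by rw [c.pow_b, one_mul, inv_one, mul_one]
      have hkey : ∀ x ∈ F, ⁅x, y'⁆ = ⁅x, y''⁆ := by
        intro x hx
        set x' := b * x * b⁻¹ with hx'
        have hx'F : x' ∈ F := hFb x hx
        have h1 := hall (x * y) (F.mul_mem hx hy)
        rw [show b * (x * y) * b⁻¹ = x' * y' by rw [hx', hy']; group] at h1
        have e1 := (hswap y hy x' hx'F).1
        have e2 := (hswap x hx y' hy'F).1
        have c1 := hcomm y hy x' hx'F
        have c2 := hcomm x hx y' hy'F
        set k1 := ⁅y, x'⁆ with hk1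
        set k2 := ⁅x, y'⁆ with hk2
        have h2 : x' * y' * (x * y) * (k2 * k1) = x' * y' * (x * y) := by
          conv_rhs => rw [← h1]
          symm
          calc x * y * (x' * y') = x * (y * x') * y' := by group
            _ = x * (x' * y * k1) * y' := by rw [e1]
            _ = (x * x') * y * (k1 * y') := by group
            _ = (x' * x) * y * (y' * k1) := by rw [hall x hx, hcentral k1 c1 y']
            _ = x' * x * (y * y') * k1 := by group
            _ = x' * x * (y' * y) * k1 := by rw [hall y hy]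
            _ = x' * (x * y') * y * k1 := by group
            _ = x' * (y' * x * k2) * y * k1 := by rw [e2]
            _ = x' * y' * x * (k2 * y) * k1 := by group
            _ = x' * y' * x * (y * k2) * k1 := by rw [hcentral k2 c2 y]
            _ = _ := by group
        have h3 : k2 = k1 := by
          have h4 : k2 * k1 = 1 := mul_eq_left.1 h2
          exact (eq_inv_of_mul_eq_one_left h4).trans (inv_eq_of_mul_eq_one_right (hscalsq k1 c1))
        have h5 : ⁅y'', x⁆ = k1 := by
          have h6 : b * b * k1 * (b * b)⁻¹ = k1 := by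
            rw [← hcentral k1 c1 (b * b), mul_inv_cancel_right]
          have hxx : b * (b * x' * b⁻¹) * b⁻¹ = x := by
            calc b * (b * x' * b⁻¹) * b⁻¹ = b ^ 3 * x * (b ^ 3)⁻¹ := by rw [hx']; exact conj_cube b x
              _ = x := by rw [c.pow_b, one_mul, inv_one, mul_one]
          rw [← h6, hk1, commutatorElement_def, commutatorElement_def]
          conv_lhs => rw [← hxx]
          rw [hy'', hy']
          group
        rw [h3, ← h5, (hswap x hx y'' hy''F).2]
      have hcent : ∀ x ∈ F, x * (y'⁻¹ * y'') = (y'⁻¹ * y'') * x := by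
        intro x hx
        have e1 := (hswap x hx y' hy'F).1
        have e2 := (hswap x hx y'' hy''F).1
        rw [← hkey x hx] at e2
        set k := ⁅x, y'⁆
        have hc := hcomm x hx y' hy'F
        have h7 : x * y'⁻¹ = y'⁻¹ * x * k := by
          have h8 : y'⁻¹ * x * k = x * y'⁻¹ * (k * k) := by
            rw [eq_comm, ← eq_mul_inv_iff_mul_eq] at e1
            calc y'⁻¹ * x * k = y'⁻¹ * (x * y' * y'⁻¹) * k := by group
              _ = y'⁻¹ * (y' * x * k * y'⁻¹) * k := by rw [← (hswap x hx y' hy'F).1]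
              _ = x * (k * y'⁻¹) * k := by group
              _ = x * (y'⁻¹ * k) * k := by rw [hcentral k hc y'⁻¹]
              _ = _ := by group
          rw [h8, hscalsq k hc, mul_one]
        calc x * (y'⁻¹ * y'') = y'⁻¹ * x * k * y'' := by rw [← mul_assoc, h7]
          _ = y'⁻¹ * (x * y'') * k := by rw [mul_assoc (y'⁻¹ * x), hcentral k hc y'']; group
          _ = y'⁻¹ * (y'' * x * k) * k := by rw [e2]
          _ = y'⁻¹ * y'' * x * (k * k) := by group
          _ = _ := by rw [hscalsq k hc, mul_one]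
      have hs := hcenter ⟨y'⁻¹ * y'', F.mul_mem (F.inv_mem hy'F) hy''F⟩
        (Subgroup.mem_center_iff.2 fun g => Subtype.ext (hcent g g.2))
      set s := y'⁻¹ * y''
      have h9 : y'' = y' * s := by simp [s]
      calc b * y * b⁻¹ = y' := rfl
        _ = y' * (s * s) := by rw [hscalsq s hs, mul_one]
        _ = y'' * s := by rw [← mul_assoc, ← h9]
        _ = b * (y' * s) * b⁻¹ := by
          rw [show b * (y' * s) * b⁻¹ = b * y' * b⁻¹ * (b * s * b⁻¹) by group, ← hcentral s hs b,
            mul_inv_cancel_right]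
        _ = y := by rw [← h9, hback]
    haveI : (Subgroup.centralizer (F : Set H)).Normal := inferInstance
    have hb' : b ∈ Subgroup.centralizer (F : Set H) := Subgroup.mem_centralizer_iff.2 fun f hf =>
      ((mul_inv_eq_iff_eq_mul.1 (hfix f hf)) : b * f = f * b).symm
    have hRF : ∀ r ∈ R, r ∈ F ∧ (r = 1 ∨ ∀ v, σ r v = -v) := fun r hr => by
      have h1 := Subgroup.mem_centralizer_iff.1 (c.R_le hb' hr)
      have h2 := hCF r hr h1
      exact ⟨h2, hcenter ⟨r, h2⟩ (Subgroup.mem_center_iff.2 fun g => Subtype.ext (h1 g g.2))⟩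
    exact c.ne_q (by rw [← hcentral q (hRF q c.mem_q).2 b]; group)
  -- the dimension is at most four
  set x' := b * x * b⁻¹ with hx'
  have hx'F : x' ∈ F := hFb x hx
  have hz : ∀ v, σ ((x⁻¹ * x') * (x⁻¹ * x')) v = -v := by
    rcases hFsq _ (F.mul_mem (F.inv_mem hx) hx'F) with h | h
    swap
    · exact h
    exfalso
    refine hxne ?_
    have hxx : x' * x' = x * x := by
      rw [hx', show b * x * b⁻¹ * (b * x * b⁻¹) = b * (x * x) * b⁻¹ by group,
        ← hcentral _ (hFsq x hx) b, mul_inv_cancel_right]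
    have h1 : x' * x⁻¹ = x * x'⁻¹ := by
      calc x' * x⁻¹ = x * (x⁻¹ * x' * (x⁻¹ * x')) * x'⁻¹ := by group
        _ = x * x'⁻¹ := by rw [h, mul_one]
    calc x * x' = (x * x'⁻¹) * (x' * x') := by group
      _ = (x' * x⁻¹) * (x * x) := by rw [h1, hxx]
      _ = x' * x := by group
  set n := Module.finrank (ZMod 3) V
  have hn4 : n ≤ 4 := by
    set K0 := LinearMap.ker (σ b - 1)
    have hdis : Disjoint K0 (K0.map (σ x)) := by
      rw [Submodule.disjoint_def]
      rintro _ hxv ⟨v, hv, rfl⟩
      have hK : ∀ w, w ∈ K0 → σ b w = w := fun w hw => by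
        rwa [LinearMap.mem_ker, LinearMap.sub_apply, Module.End.one_apply, sub_eq_zero] at hw
      have hv' : σ b⁻¹ v = v := by
        conv_lhs => rw [← hK v hv]
        exact inv_apply' σ b v
      have e1 : σ x' v = σ x v := by rw [hx', mul_apply', mul_apply', hv', hK _ hxv]
      have e2 : σ (x⁻¹ * x') v = v := by rw [mul_apply', e1, inv_apply']
      have e3 := hz v
      rw [mul_apply', e2, e2] at e3
      rw [eq_zero_of_eq_neg e3, map_zero]
    have hx_inj : Function.Injective (σ x) := Function.LeftInverse.injective (inv_apply' σ x)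
    have h1 := Submodule.finrank_sup_add_finrank_inf_eq K0 (K0.map (σ x))
    rw [hdis.eq_bot, finrank_bot, ← LinearEquiv.finrank_eq (Submodule.equivMapOfInjective _ hx_inj K0)] at h1
    have h2 := LinearMap.finrank_range_add_finrank_ker (σ b - 1)
    have h3 := Submodule.finrank_le (K0 ⊔ K0.map (σ x))
    have hr := c.rank
    change _ + Module.finrank (ZMod 3) K0 = n at h2
    change _ ≤ n at h3
    omega
  have hGL : Nat.card R ∣ 24261120 := by
    let bas := Module.finBasis (ZMod 3) V
    let φ : R →* GL (Fin n) (ZMod 3) :=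
      (Units.mapEquiv (LinearMap.toMatrixAlgEquiv bas).toMulEquiv).toMonoidHom.comp
        (σ.comp R.subtype).toHomUnits
    have hφ : Function.Injective φ := fun s t h => Subtype.ext (c.inj
      (congrArg Units.val ((Units.mapEquiv _).injective h)))
    refine (Subgroup.card_dvd_of_injective φ hφ).trans ?_
    have hall : ∀ m ≤ 4, (∏ i : Fin m, (3 ^ m - 3 ^ (i : ℕ))) ∣ 24261120 := by
      intro m hm
      interval_cases m <;> simp [Fin.prod_univ_succ] <;> norm_num
    rw [Matrix.card_GL_field, ZMod.card]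
    exact hall n hn4
  have hpow2 : ∀ i : ℕ, 2 ^ i ∣ 24261120 → i ≤ 9 := by
    intro i hi
    by_contra hlt
    have : 2 ^ 10 ∣ 24261120 := (pow_dvd_pow 2 (by omega)).trans hi
    norm_num at this
  have hR2 : IsPGroup 2 R := by
    suffices hprimes : ∀ {r : ℕ}, r.Prime → r ∣ Nat.card R → r = 2 from
      IsPGroup.of_card (n := (Nat.card R).primeFactorsList.length)
        (Nat.eq_prime_pow_of_unique_prime_dvd Nat.card_pos.ne' hprimes)
    intro r hr hd
    by_contra hr2
    haveI := Fact.mk hr
    obtain ⟨a, ha⟩ := exists_prime_orderOf_dvd_card' r hd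
    have ha' : orderOf (a : H) = r := by rw [Subgroup.orderOf_coe, ha]
    have hne : ∀ P : Subgroup H, (a : H) ∈ P → ∀ _ : IsPGroup r P, ∃ k, k < n ∧ r ∣ 3 ^ (n - k) - 1 ∧
        ((∃ v : V, v ≠ 0 ∧ ∀ g ∈ P, σ g v = v) → 1 ≤ k) := by
      intro P haP hP
      have hcount := fixed_count (σ := σ) (r := r) P hP ⊤ (fun _ _ _ _ => trivial)
      let Fx : Submodule (ZMod 3) V :=
        { carrier := {w | ∀ g ∈ P, σ g w = w}
          zero_mem' := fun k _ => map_zero _
          add_mem' := fun {x y} hx hy k hk => by rw [map_add, hx k hk, hy k hk]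
          smul_mem' := fun t x hx k hk => by rw [map_smul, hx k hk] }
      have he : Nat.card {w : (⊤ : Submodule (ZMod 3) V) // ∀ g ∈ P, σ g (w : V) = w} = Nat.card Fx :=
        Nat.card_congr ⟨fun w => ⟨w.1, w.2⟩, fun w => ⟨⟨w, trivial⟩, w.2⟩, fun _ => rfl, fun _ => rfl⟩
      rw [he, Module.natCard_eq_pow_finrank (K := ZMod 3), Nat.card_zmod, finrank_top,
        Module.natCard_eq_pow_finrank (K := ZMod 3), Nat.card_zmod] at hcount
      have hlt : Module.finrank (ZMod 3) Fx < n := by
        refine Submodule.finrank_lt fun h => ?_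
        refine hr.ne_one ?_
        rw [← ha', orderOf_eq_one_iff]
        refine c.inj (LinearMap.ext fun v => ?_)
        have hv : v ∈ Fx := h ▸ Submodule.mem_top
        rw [hv _ haP, map_one]
        rfl
      refine ⟨_, hlt, ?_, fun ⟨v, hv0, hv⟩ => ?_⟩
      · have h1 : r ∣ 3 ^ n - 3 ^ Module.finrank (ZMod 3) Fx :=
          (Nat.modEq_iff_dvd' (Nat.pow_le_pow_right (by norm_num) hlt.le)).1 hcount.symm
        have h2 : 3 ^ n - 3 ^ Module.finrank (ZMod 3) Fx =
            3 ^ Module.finrank (ZMod 3) Fx * (3 ^ (n - Module.finrank (ZMod 3) Fx) - 1) := by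
          rw [Nat.mul_sub, mul_one, ← pow_add, Nat.add_sub_cancel' hlt.le]
        rw [h2] at h1
        refine (hr.dvd_mul.1 h1).resolve_left fun h3 => ?_
        have := (Nat.prime_dvd_prime_iff_eq hr Nat.prime_three).1 (hr.dvd_of_dvd_pow h3)
        subst this
        exact Nat.not_prime_one (Nat.eq_one_of_dvd_coprimes c.cop hd dvd_rfl ▸ Nat.prime_three)
      · exact Submodule.one_le_finrank_iff.2 fun h => hv0 ((Submodule.mem_bot _).1 (h ▸ (show v ∈ Fx from hv)))
    have hap : IsPGroup r (Subgroup.zpowers (a : H)) :=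
      IsPGroup.of_card (n := 1) (by rw [Nat.card_zpowers, ha', pow_one])
    obtain ⟨k, hk, hdiv, -⟩ := hne _ (Subgroup.mem_zpowers _) hap
    have hr' : r = 5 ∨ r = 13 := by
      have h2 : ∀ m, m = 2 ∨ m = 8 ∨ m = 26 ∨ m = 80 → r ∣ m → r = 5 ∨ r = 13 := by
        intro m hm hdm
        have hle : r ≤ 80 := le_trans (Nat.le_of_dvd (by omega) hdm) (by omega)
        rcases hm with rfl | rfl | rfl | rfl
        · exact absurd ((Nat.prime_dvd_prime_iff_eq hr Nat.prime_two).1 hdm) hr2
        · exact absurd ((Nat.prime_dvd_prime_iff_eq hr Nat.prime_two).1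
            (hr.dvd_of_dvd_pow (show r ∣ 2 ^ 3 from hdm))) hr2
        · rcases hr.dvd_mul.1 (show r ∣ 2 * 13 from hdm) with h | h
          · exact absurd ((Nat.prime_dvd_prime_iff_eq hr Nat.prime_two).1 h) hr2
          · exact Or.inr ((Nat.prime_dvd_prime_iff_eq hr (by norm_num)).1 h)
        · rcases hr.dvd_mul.1 (show r ∣ 2 ^ 4 * 5 from hdm) with h | h
          · exact absurd ((Nat.prime_dvd_prime_iff_eq hr Nat.prime_two).1 (hr.dvd_of_dvd_pow h)) hr2
          · exact Or.inl ((Nat.prime_dvd_prime_iff_eq hr (by norm_num)).1 h)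
      refine h2 _ ?_ hdiv
      rcases (by omega : n - k = 1 ∨ n - k = 2 ∨ n - k = 3 ∨ n - k = 4) with h | h | h | h <;>
        rw [h] <;> norm_num
    rcases hr' with rfl | rfl
    · -- `r = 5`
      haveI : Fact (Nat.Prime 5) := ⟨hr⟩
      have hbord : Nat.card (Subgroup.zpowers b) ∣ 3 := by
        rw [Nat.card_zpowers]; exact orderOf_dvd_of_pow_eq_one c.pow_b
      obtain ⟨P, hP⟩ := H1.exists_invariant_sylow (A := Subgroup.zpowers b) (K := R)
        (fun g _ => Subgroup.mem_normalizer_iff.2 fun y => ⟨fun hy => c.conj_mem hy g, fun hy => by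
          have := c.conj_mem hy g⁻¹; simpa [mul_assoc] using this⟩)
        (Nat.Coprime.coprime_dvd_left hbord c.cop.symm) (Or.inr c.sol) 5
      have hP5 : Nat.card P = 5 := by
        rw [P.card_eq_multiplicity]
        have hfac : (Nat.card R).factorization 5 = 1 := by
          refine le_antisymm ?_ ((hr.dvd_iff_one_le_factorization Nat.card_pos.ne').1 hd)
          by_contra hlt
          have : 5 ^ 2 ∣ 24261120 :=
            ((hr.pow_dvd_iff_le_factorization Nat.card_pos.ne').2 (by omega)).trans hGL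
          norm_num at this
        rw [hfac, pow_one]
      set Pm := (P : Subgroup R).map R.subtype
      have hPm5 : Nat.card Pm = 5 := by rw [Subgroup.card_map_of_injective R.subtype_injective, hP5]
      obtain ⟨g, hg⟩ := exists_prime_orderOf_dvd_card' (G := Pm) 5 (by rw [hPm5])
      have hzp : Subgroup.zpowers (g : H) = Pm := Subgroup.eq_of_le_of_card_ge
        (Subgroup.zpowers_le.2 g.2) (by rw [Nat.card_zpowers, Subgroup.orderOf_coe, hg, hPm5])
      have hbg : b * g * b⁻¹ ∈ Pm := (Subgroup.mem_normalizer_iff.1 (hP (Subgroup.mem_zpowers b)) g).1 g.2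
      replace hbg : b * g * b⁻¹ ∈ Subgroup.zpowers (g : H) := hzp.ge hbg
      rw [mem_zpowers_iff_mem_range_orderOf] at hbg
      simp only [Finset.mem_image, Finset.mem_range] at hbg
      obtain ⟨m, -, hm⟩ := hbg
      have hg5 : orderOf (g : H) = 5 := by rw [Subgroup.orderOf_coe, hg]
      have hcomm5 : Commute b g := by
        have hiter : b ^ 3 * g * (b ^ 3)⁻¹ = (g : H) ^ (m * m * m) := by
          have e1 : ∀ t : ℕ, b * (g : H) ^ t * b⁻¹ = (g : H) ^ (m * t) := fun t => by
            rw [← conj_pow, ← hm, ← pow_mul]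
          calc b ^ 3 * g * (b ^ 3)⁻¹ = b * (b * (b * (g : H) ^ 1 * b⁻¹) * b⁻¹) * b⁻¹ := by
                rw [conj_cube, pow_one]
            _ = _ := by rw [e1, e1, e1, mul_one, mul_assoc]
        rw [c.pow_b, one_mul, inv_one, mul_one] at hiter
        have h3 : (m : ZMod 5) * m * m = 1 := by
          have h4 : (g : H) ^ (m * m * m) = (g : H) ^ 1 := by rw [pow_one]; exact hiter.symm
          rw [pow_eq_pow_iff_modEq, hg5] at h4
          exact_mod_cast (ZMod.natCast_eq_natCast_iff _ _ _).2 h4
        have h5 : (m : ZMod 5) = 1 := by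
          exact cube_eq_one_zmod_five _ h3
        have h6 : (g : H) ^ m = (g : H) ^ 1 := by
          rw [pow_eq_pow_iff_modEq, hg5]
          exact (ZMod.natCast_eq_natCast_iff _ _ _).1 (by simpa using h5)
        rw [pow_one, hm] at h6
        exact mul_inv_eq_iff_eq_mul.1 h6
      -- a fixed line
      set D := σ b - 1 with hDdef
      obtain ⟨v, hv, hv0⟩ := c.eigLine_ne_bot
      have hD2v : D (D v) ≠ 0 := by
        intro h
        have h1 : v + (σ b v) + σ b (σ b v) = 0 := by
          have h3 : σ b v + σ b v + σ b v = 0 := by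
            have : (3 : ZMod 3) • σ b v = 0 := by rw [show (3 : ZMod 3) = 0 by decide, zero_smul]
            rw [show (3 : ZMod 3) = 1 + 1 + 1 by norm_num, add_smul, add_smul, one_smul] at this
            exact this
          simp only [hDdef, LinearMap.sub_apply, Module.End.one_apply, map_sub] at h
          calc v + σ b v + σ b (σ b v)
              = (σ b (σ b v) - σ b v - (σ b v - v)) + (σ b v + σ b v + σ b v) := by abel
            _ = 0 := by rw [h, h3, add_zero]
        obtain ⟨⟨a1, a2⟩, a3, a4⟩ := c.four.eig_images hv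
        obtain ⟨hv1, hv2⟩ := mem_eigLine.1 hv
        exact hv0 (c.four.eig_indep hv1 hv2 a1 a2 a3 a4 h1).1
      have hD3 : ∀ w, D (D (D w)) = 0 := fun w => by
        have hb3 : σ b (σ b (σ b w)) = w := by
          rw [← mul_apply', ← mul_apply', show b * b * b = 1 by
            rw [← c.pow_b, pow_succ, pow_two], map_one]
          rfl
        have h3 : ∀ u : V, u + u + u = 0 := fun u => by
          have : (3 : ZMod 3) • u = 0 := by rw [show (3 : ZMod 3) = 0 by decide, zero_smul]
          rw [show (3 : ZMod 3) = 1 + 1 + 1 by norm_num, add_smul, add_smul, one_smul] at this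
          exact this
        simp only [hDdef, LinearMap.sub_apply, Module.End.one_apply, map_sub, hb3]
        calc w - σ b (σ b w) - (σ b (σ b w) - σ b w) - (σ b (σ b w) - σ b w - (σ b w - w))
            = (σ b w + σ b w + σ b w) - (σ b (σ b w) + σ b (σ b w) + σ b (σ b w)) := by abel
          _ = 0 := by rw [h3, h3, sub_zero]
      have hrankD2 : Module.finrank (ZMod 3) ((LinearMap.range D).map D) ≤ 1 := by
        set f := D.domRestrict (LinearMap.range D)
        have h1 := LinearMap.finrank_range_add_finrank_ker f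
        have h2 : LinearMap.range f = (LinearMap.range D).map D := LinearMap.range_domRestrict _ _
        have h3 : 1 ≤ Module.finrank (ZMod 3) (LinearMap.ker f) := Submodule.one_le_finrank_iff.2
          fun h => hD2v (by
            have h4 : (⟨D (D v), ⟨D v, rfl⟩⟩ : LinearMap.range D) ∈ LinearMap.ker f :=
              LinearMap.mem_ker.2 (hD3 v)
            rw [h, Submodule.mem_bot] at h4
            exact congrArg Subtype.val h4)
        have hr2 : Module.finrank (ZMod 3) (LinearMap.range D) ≤ 2 := c.rank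
        rw [h2] at h1
        omega
      set u := D (D v)
      have hu : u ∈ (LinearMap.range D).map D := ⟨D v, ⟨v, rfl⟩, rfl⟩
      have hgD : ∀ w, D (σ g w) = σ g (D w) := fun w => by
        simp only [hDdef, LinearMap.sub_apply, Module.End.one_apply, map_sub]
        rw [← mul_apply', hcomm5.eq, mul_apply']
      have hgu : σ g u ∈ (LinearMap.range D).map D :=
        ⟨σ g (D v), ⟨σ g v, hgD v⟩, hgD (D v)⟩
      have hline : (LinearMap.range D).map D ≤ Submodule.span (ZMod 3) {u} := by
        refine le_of_eq (Submodule.eq_of_le_of_finrank_le ?_ ?_).symm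
        · rwa [Submodule.span_singleton_le_iff_mem]
        · rw [finrank_span_singleton hD2v]; exact hrankD2
      obtain ⟨t, ht⟩ := Submodule.mem_span_singleton.1 (hline hgu)
      have ht1 : σ (g : H) u = u := by
        rcases zmod_three_cases t with rfl | rfl | rfl
        · rw [zero_smul] at ht
          exact absurd (by rw [← inv_apply' σ (g : H) u, ← ht, map_zero]) hD2v
        · rw [← ht, one_smul]
        · exfalso
          rw [neg_one_smul] at ht
          have h5 : σ ((g : H) ^ 5) u = -u := by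
            simp only [pow_succ, pow_zero, one_mul, mul_apply', ← ht, map_neg, neg_neg]
          rw [← hg5, pow_orderOf_eq_one, map_one] at h5
          exact hD2v (eq_zero_of_eq_neg h5)
      have hgz : IsPGroup 5 (Subgroup.zpowers (g : H)) :=
        IsPGroup.of_card (n := 1) (by rw [Nat.card_zpowers, hg5, pow_one])
      have hfixz : ∀ h ∈ Subgroup.zpowers (g : H), σ h u = u := by
        intro h hh
        obtain ⟨j, rfl⟩ := (mem_powers_iff_mem_zpowers.2 hh : h ∈ Submonoid.powers (g : H))
        induction j with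
        | zero => simp only [pow_zero, map_one]; rfl
        | succ j ih => simp only [pow_succ, mul_apply', ht1]; exact ih (by simp)
      -- count with `g` in place of `a`
      have hcount := fixed_count (σ := σ) (r := 5) _ hgz ⊤ (fun _ _ _ _ => trivial)
      let Fx : Submodule (ZMod 3) V :=
        { carrier := {w | ∀ h ∈ Subgroup.zpowers (g : H), σ h w = w}
          zero_mem' := fun k _ => map_zero _
          add_mem' := fun {x y} hx hy k hk => by rw [map_add, hx k hk, hy k hk]
          smul_mem' := fun t x hx k hk => by rw [map_smul, hx k hk] }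
      have he : Nat.card {w : (⊤ : Submodule (ZMod 3) V) // ∀ h ∈ Subgroup.zpowers (g : H), σ h (w : V) = w} =
          Nat.card Fx :=
        Nat.card_congr ⟨fun w => ⟨w.1, w.2⟩, fun w => ⟨⟨w, trivial⟩, w.2⟩, fun _ => rfl, fun _ => rfl⟩
      rw [he, Module.natCard_eq_pow_finrank (K := ZMod 3), Nat.card_zmod, finrank_top,
        Module.natCard_eq_pow_finrank (K := ZMod 3), Nat.card_zmod] at hcount
      have h1 : 1 ≤ Module.finrank (ZMod 3) Fx :=
        Submodule.one_le_finrank_iff.2 fun h => hD2v ((Submodule.mem_bot _).1 (h ▸ (show u ∈ Fx from hfixz)))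
      have h2 : Module.finrank (ZMod 3) Fx < n := by
        refine Submodule.finrank_lt fun h => ?_
        have : (g : H) = 1 := c.inj (LinearMap.ext fun w => by
          have hw : w ∈ Fx := h ▸ Submodule.mem_top
          rw [hw _ (Subgroup.mem_zpowers _), map_one]; rfl)
        rw [this, orderOf_one] at hg5
        omega
      change 3 ^ n ≡ 3 ^ Module.finrank (ZMod 3) Fx [MOD 5] at hcount
      generalize Module.finrank (ZMod 3) Fx = j at h1 h2 hcount
      interval_cases n <;> interval_cases j <;> simp [Nat.ModEq] at hcount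
    · -- `r = 13`
      haveI : Fact (Nat.Prime 13) := ⟨hr⟩
      letI : MulAction (Subgroup.zpowers (a : H)) F :=
        { smul := fun g f => ⟨g * f * (g : H)⁻¹, hFn.conj_mem f f.2 g⟩
          one_smul := fun f => Subtype.ext (by
            show ((1 : Subgroup.zpowers (a : H)) : H) * f * ((1 : Subgroup.zpowers (a : H)) : H)⁻¹ = f
            simp)
          mul_smul := fun g g' f => Subtype.ext (by
            show ((g * g' : Subgroup.zpowers (a : H)) : H) * f * ((g * g' : Subgroup.zpowers (a : H)) : H)⁻¹ = g * (g' * f * (g' : H)⁻¹) * (g : H)⁻¹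
            simp [mul_assoc]) }
      have hcount := hap.card_modEq_card_fixedPoints F
      let C : Subgroup F := (Subgroup.centralizer (Subgroup.zpowers (a : H) : Set H)).subgroupOf F
      have he : Nat.card (MulAction.fixedPoints (Subgroup.zpowers (a : H)) F) = Nat.card C := by
        refine Nat.card_congr (Equiv.subtypeEquivRight fun f => ?_)
        constructor
        · intro h
          exact Subgroup.mem_centralizer_iff.2 fun g hg =>
            mul_inv_eq_iff_eq_mul.1 (congrArg Subtype.val (h ⟨g, hg⟩))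
        · intro h g
          exact Subtype.ext (mul_inv_eq_iff_eq_mul.2 (Subgroup.mem_centralizer_iff.1 h g g.2))
      obtain ⟨i, hi⟩ := IsPGroup.iff_card.1 hFp
      obtain ⟨j, hji, hj⟩ := (Nat.dvd_prime_pow Nat.prime_two).1 (hi ▸ Subgroup.card_subgroup_dvd_card C)
      rw [he, hi, hj] at hcount
      have hi9 : i ≤ 9 := hpow2 i (((hi ▸ dvd_rfl : 2 ^ i ∣ Nat.card F)).trans
        ((Subgroup.card_dvd_of_le hFR).trans hGL))
      have hij : i = j := by
        interval_cases i <;> interval_cases j <;> first | rfl | simp [Nat.ModEq] at hcount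
      have haF : (a : H) ∈ F := hCF a a.2 fun f hf => by
        have hC : C = ⊤ := Subgroup.eq_top_of_card_eq C (by rw [hj, hi, hij])
        have : (⟨f, hf⟩ : F) ∈ C := hC ▸ Subgroup.mem_top _
        exact (Subgroup.mem_centralizer_iff.1 this a (Subgroup.mem_zpowers _)).symm
      obtain ⟨l, hl⟩ := hFp ⟨a, haF⟩
      have h13 : 13 ∣ 2 ^ l := by
        rw [← ha']
        exact orderOf_dvd_of_pow_eq_one (congrArg Subtype.val hl)
      have := hr.dvd_of_dvd_pow h13
      omega
  -- `R = F`, a contradiction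
  have hRF : R ≤ F := fun r hr => ⟨⟨r, hr⟩, by rw [hF0, H1.pCore_of_isPGroup hR2]; trivial, rfl⟩
  set q1 := b * q * b⁻¹ with hq1
  let A : Subgroup H :=
    { carrier := {g | g ∈ R ∧ ∃ s : H, (s = 1 ∨ ∀ v, σ s v = -v) ∧
        (g = s ∨ g = q * s ∨ g = q1 * s ∨ g = q * q1 * s)}
      one_mem' := ⟨R.one_mem, 1, Or.inl rfl, Or.inl rfl⟩
      mul_mem' := by
        rintro g g' ⟨hg, s, hs, hgs⟩ ⟨hg', s', hs', hgs'⟩
        refine ⟨R.mul_mem hg hg', s * s', ?_, ?_⟩
        · rcases hs with rfl | hs
          · rw [one_mul]; exact hs'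
          rcases hs' with rfl | hs'
          · rw [mul_one]; exact Or.inr hs
          exact Or.inl (c.inj (LinearMap.ext fun v => by
            rw [mul_apply', hs', hs, neg_neg, map_one]; rfl))
        · have hk : ∀ t u : H, (t * s) * (u * s') = t * u * (s * s') := fun t u => by
            calc (t * s) * (u * s') = t * (s * u) * s' := by group
              _ = t * (u * s) * s' := by rw [hcentral s hs u]
              _ = _ := by group
          have hqq : q * q = 1 := c.sq_q
          have h11 : q1 * q1 = 1 := by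
            rw [hq1, show b * q * b⁻¹ * (b * q * b⁻¹) = b * (q * q) * b⁻¹ by group, hqq, mul_one,
              mul_inv_cancel]
          have h10 : q1 * q = q * q1 := c.comm_q.eq.symm
          have e1 : q * (q * q1) = q1 := by rw [← mul_assoc, hqq, one_mul]
          have e2 : q1 * (q * q1) = q := by rw [← mul_assoc, h10, mul_assoc, h11, mul_one]
          have e3 : q * q1 * q = q1 := by rw [mul_assoc, h10, e1]
          have e4 : q * q1 * q1 = q := by rw [mul_assoc, h11, mul_one]
          have e5 : q * q1 * (q * q1) = 1 := by rw [← mul_assoc, e3, h11]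
          rcases hgs with rfl | rfl | rfl | rfl <;> rcases hgs' with rfl | rfl | rfl | rfl
          · exact Or.inl rfl
          · right; left; rw [← mul_assoc, hcentral _ hs q, mul_assoc]
          · right; right; left; rw [← mul_assoc, hcentral _ hs q1, mul_assoc]
          · right; right; right; rw [← mul_assoc, hcentral _ hs (q * q1), mul_assoc]
          · right; left; rw [mul_assoc]
          · left; rw [hk, hqq, one_mul]
          · right; right; right; rw [hk]
          · right; right; left; rw [hk, e1]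
          · right; right; left; rw [mul_assoc]
          · right; right; right; rw [hk, h10]
          · left; rw [hk, h11, one_mul]
          · right; left; rw [hk, e2]
          · right; right; right; rw [mul_assoc]
          · right; right; left; rw [hk, e3]
          · right; left; rw [hk, e4]
          · left; rw [hk, e5, one_mul]
      inv_mem' := by
        rintro g ⟨hg, s, hs, hgs⟩
        have hqi : q⁻¹ = q := inv_eq_of_mul_eq_one_right c.sq_q
        have h1i : q1⁻¹ = q1 := by rw [hq1, mul_inv_rev, mul_inv_rev, inv_inv, hqi, mul_assoc]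
        have hsi : s⁻¹ = s := inv_eq_of_mul_eq_one_right (hscalsq s hs)
        refine ⟨R.inv_mem hg, s, hs, ?_⟩
        rcases hgs with rfl | rfl | rfl | rfl
        · exact Or.inl hsi
        · right; left; rw [mul_inv_rev, hsi, hqi, hcentral s hs]
        · right; right; left; rw [mul_inv_rev, hsi, h1i, hcentral s hs]
        · right; right; right; rw [mul_inv_rev, mul_inv_rev, hsi, hqi, h1i, hcentral s hs, ← c.comm_q.eq] }
  have hAc : ∀ g ∈ A, ∀ g' ∈ A, g * g' = g' * g := by
    have hgen : ∀ g ∈ A, Commute g q ∧ Commute g q1 := by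
      rintro g ⟨-, s, hs, hgs⟩
      have hsq : Commute s q := hcentral s hs q
      have hs1 : Commute s q1 := hcentral s hs q1
      rcases hgs with rfl | rfl | rfl | rfl
      · exact ⟨hsq, hs1⟩
      · exact ⟨(Commute.refl q).mul_left hsq, c.comm_q.mul_left hs1⟩
      · exact ⟨c.comm_q.symm.mul_left hsq, (Commute.refl q1).mul_left hs1⟩
      · exact ⟨((Commute.refl q).mul_left c.comm_q.symm).mul_left hsq,
          (c.comm_q.mul_left (Commute.refl q1)).mul_left hs1⟩
    rintro g hg g' ⟨-, s, hs, hgs⟩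
    obtain ⟨h1, h2⟩ := hgen g hg
    have h0 : Commute g s := (hcentral s hs g).symm
    rcases hgs with rfl | rfl | rfl | rfl
    · exact h0
    · exact h1.mul_right h0
    · exact h2.mul_right h0
    · exact (h1.mul_right h2).mul_right h0
  have hconjq : ∀ g ∈ A, ∀ h : H, h ∈ R ∨ h = b → h * g * h⁻¹ ∈ A := by
    intro g hg h hh
    have hgR : h * g * h⁻¹ ∈ R := c.conj_mem hg.1 h
    rcases hh with hh | hh
    · -- commutators in `R` are scalars
      obtain ⟨s, hs, hgs⟩ := hg.2
      have hc := hcomm h (hRF hh) g (hRF hg.1)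
      refine ⟨hgR, s * ⁅h, g⁆, ?_, ?_⟩
      · rcases hs with rfl | hs
        · rw [one_mul]; exact hc
        rcases hc with hc | hc
        · rw [hc, mul_one]; exact Or.inr hs
        exact Or.inl (c.inj (LinearMap.ext fun v => by rw [mul_apply', hc, hs, neg_neg, map_one]; rfl))
      · have e : h * g * h⁻¹ = g * ⁅h, g⁆ := by
          rw [← hcentral _ hc g, commutatorElement_def, inv_mul_cancel_right]
        rw [e]
        rcases hgs with e' | e' | e' | e' <;> [left; (right; left); (right; right; left); (right; right; right)] <;>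
          rw [e']
        all_goals rw [mul_assoc]
    · rw [hh] at hgR ⊢
      obtain ⟨s, hs, hgs⟩ := hg.2
      refine ⟨hgR, s, hs, ?_⟩
      have e : ∀ t : H, b * (t * s) * b⁻¹ = b * t * b⁻¹ * s := fun t => by
        calc b * (t * s) * b⁻¹ = b * t * (s * b⁻¹) := by group
          _ = b * t * (b⁻¹ * s) := by rw [hcentral s hs b⁻¹]
          _ = _ := by group
      rcases hgs with rfl | rfl | rfl | rfl
      · left; rw [← hcentral _ hs b, mul_inv_cancel_right]
      · right; right; left; rw [e]
      · right; right; right; rw [e, hq1, c.prod_q]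
      · right; left; rw [e, hq1, c.four.conj_prod]
  haveI hAn : A.Normal := ⟨fun g hg h => by
    obtain ⟨r, hr, i, rfl⟩ := c.gen h
    have hi : ∀ i : ℕ, b ^ i * g * (b ^ i)⁻¹ ∈ A := by
      intro i
      induction i with
      | zero => simpa using hg
      | succ i ih =>
        have := hconjq _ ih b (Or.inr rfl)
        simpa [pow_succ', mul_assoc] using this
    have := hconjq _ (hi i) r (Or.inl hr)
    simpa [mul_assoc] using this⟩
  have hA2 : ∀ g ∈ A, g * g = 1 := by
    rintro g ⟨-, s, hs, hgs⟩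
    have hk : ∀ t : H, t * t = 1 → t * s * (t * s) = 1 := fun t ht => by
      calc t * s * (t * s) = t * (s * t) * s := by group
        _ = t * (t * s) * s := by rw [hcentral s hs t]
        _ = (t * t) * (s * s) := by group
        _ = 1 := by rw [ht, hscalsq s hs, one_mul]
    rcases hgs with rfl | rfl | rfl | rfl
    · exact hscalsq _ hs
    · exact hk q c.sq_q
    · exact hk q1 (by rw [hq1, show b * q * b⁻¹ * (b * q * b⁻¹) = b * (q * q) * b⁻¹ by group,
        c.sq_q, mul_one, mul_inv_cancel])
    · refine hk _ ?_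
      calc q * q1 * (q * q1) = q * (q1 * q) * q1 := by group
        _ = (q * q) * (q1 * q1) := by rw [show q1 * q = q * q1 from c.comm_q.eq.symm]; group
        _ = 1 := by
          rw [c.sq_q, hq1, show b * q * b⁻¹ * (b * q * b⁻¹) = b * (q * q) * b⁻¹ by group, c.sq_q,
            mul_one, mul_inv_cancel, one_mul]
  have hqA : q ∈ A := ⟨c.mem_q, 1, Or.inl rfl, Or.inr (Or.inl (mul_one q).symm)⟩
  refine c.ne_q ?_
  rw [← hcentral q (hscal A hAn (fun g hg => hg.1) hAc hA2 q hqA) b]
  group

end H88.Cubic
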