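import Cfsg.Agent.H88.CubicBlock.Core
import Cfsg.Agent.H68.ExtraComm

/-!
A solvable group over the field with three elements with an element of order three having a single
cubic Jordan block: structure of the commutator of the `3'`-core with that element.
-/

set_option autoImplicit false
set_option linter.style.haveILetI false
set_option linter.unusedSectionVars false

open scoped commutatorElement

namespace H88.Cubic

universe u

theorem cubic_block {S : Type u} [Group S] [Finite S] [Group.IsSolvable S] {E : Type*} [AddCommGroup E]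
    [Module (ZMod 3) E] [Finite E] (ρ : Representation (ZMod 3) S E) (hfaith : Function.Injective ρ)
    (B : Subgroup S) (hB : Nat.card B = 3) (b : S) (hb : Subgroup.zpowers b = B)
    (E₀ E₁ : Submodule (ZMod 3) E) (hE01' : E₀ ⊔ E₁ = ⊤)
    (hE1 : ∀ v ∈ E₁, ρ b v = v) (hE0inv : ∀ v ∈ E₀, ρ b v ∈ E₀) (hE0 : Nat.card E₀ = 27)
    (Q : Subgroup S) (hQ : Cfsg.IsElementaryAbelian 2 Q) (hQ4 : Nat.card Q = 4)
    (hBQ : B ≤ Subgroup.normalizer (Q : Set S)) (hBQ' : ¬ B ≤ Subgroup.centralizer (Q : Set S))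
    (P : Sylow 3 S) (hBZ : (Subgroup.center (P : Subgroup S)).map (P : Subgroup S).subtype = B) :
    Goal ⁅Cfsg.pPrimeCore 3 S, B⁆ ∧
    ∃ F₀ F₁ : Submodule (ZMod 3) E, F₀ ⊓ F₁ = ⊥ ∧ F₀ ⊔ F₁ = ⊤ ∧
      (∀ r ∈ ⁅Cfsg.pPrimeCore 3 S, B⁆, ∀ v ∈ F₁, ρ r v = v) ∧
      (∀ r ∈ ⁅Cfsg.pPrimeCore 3 S, B⁆ ⊔ B, ∀ v ∈ F₀, ρ r v ∈ F₀) ∧
      (∀ r ∈ ⁅Cfsg.pPrimeCore 3 S, B⁆ ⊔ B, (∀ v ∈ F₀, ρ r v = v) → r = 1) ∧
      (∀ N : Submodule (ZMod 3) E, N ≤ F₀ →
        (∀ r ∈ ⁅Cfsg.pPrimeCore 3 S, B⁆ ⊔ B, ∀ v ∈ N, ρ r v ∈ N) → N = ⊥ ∨ N = F₀) := by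
  classical
  haveI : Fact (Nat.Prime 3) := ⟨Nat.prime_three⟩
  have hb3 : orderOf b = 3 := by rw [← Nat.card_zpowers, hb, hB]
  have hbp : b ^ 3 = 1 := hb3 ▸ pow_orderOf_eq_one b
  have hbB : b ∈ B := hb ▸ Subgroup.mem_zpowers b
  set O := Cfsg.pPrimeCore 3 S with hO
  haveI hOn : O.Normal := H1.pPrimeCore_normal' 3 S
  -- the four-group
  obtain ⟨q, hqQ, hqb⟩ : ∃ q ∈ Q, b * q * b⁻¹ ≠ q := by
    by_contra h
    push Not at h
    refine hBQ' (hb ▸ Subgroup.zpowers_le.2 (Subgroup.mem_centralizer_iff.2 fun y hy => ?_))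
    exact (mul_inv_eq_iff_eq_mul.1 (h y hy)).symm
  set q1 := b * q * b⁻¹ with hq1
  have hq1Q : q1 ∈ Q := (Subgroup.mem_normalizer_iff.1 (hBQ hbB) q).1 hqQ
  have hsq : ∀ x ∈ Q, x * x = 1 := fun x hx => by rw [← pow_two]; exact hQ.2 x hx
  have hcomm : Commute q q1 := congrArg Subtype.val (hQ.1.is_comm.comm (⟨q, hqQ⟩ : Q) ⟨q1, hq1Q⟩)
  have hq_ne : q ≠ 1 := fun h => hqb (by rw [hq1, h]; group)
  have hq1_ne : q1 ≠ 1 := fun h => hq_ne (by rw [hq1] at h; simpa using h)
  have hprod : b * q1 * b⁻¹ = q * q1 := by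
    have hmem : b * q1 * b⁻¹ ∈ Q := (Subgroup.mem_normalizer_iff.1 (hBQ hbB) q1).1 hq1Q
    haveI := Fintype.ofFinite Q
    have h1 : q * q1 ≠ 1 := fun h => hqb ((eq_inv_of_mul_eq_one_right h).trans
      (inv_eq_of_mul_eq_one_right (hsq q hqQ)))
    have hall : ({⟨1, Q.one_mem⟩, ⟨q, hqQ⟩, ⟨q1, hq1Q⟩, ⟨_, Q.mul_mem hqQ hq1Q⟩} : Finset Q) =
        Finset.univ := by
      refine Finset.eq_univ_of_card _ ?_
      rw [Finset.card_insert_of_notMem (by
          simp only [Finset.mem_insert, Finset.mem_singleton, Subtype.mk.injEq, not_or]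
          exact ⟨hq_ne.symm, hq1_ne.symm, h1.symm⟩),
        Finset.card_insert_of_notMem (by
          simp only [Finset.mem_insert, Finset.mem_singleton, Subtype.mk.injEq, not_or]
          exact ⟨Ne.symm hqb, fun h => hq1_ne (mul_eq_left.1 h.symm)⟩),
        Finset.card_insert_of_notMem (by
          simp only [Finset.mem_singleton, Subtype.mk.injEq]
          exact fun h => hq_ne (mul_eq_right.1 h.symm)), Finset.card_singleton,
        ← Nat.card_eq_fintype_card, hQ4]
    have hx := hall.ge (Finset.mem_univ (⟨_, hmem⟩ : Q))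
    simp only [Finset.mem_insert, Finset.mem_singleton, Subtype.mk.injEq] at hx
    rcases hx with h | h | h | h
    · exact absurd (by simpa using h) hq1_ne
    · exfalso
      apply hqb
      have h2 : b * (b * q1 * b⁻¹) * b⁻¹ = q := by
        rw [hq1, conj_cube, hbp, one_mul, inv_one, mul_one]
      rw [h] at h2
      exact h2
    · exfalso
      apply hqb
      have h2 : b * q1 * b⁻¹ = b * q * b⁻¹ := h
      simpa using mul_left_cancel (mul_right_cancel h2)
    · exact h
  have hconjp : b * (q * q1) * b⁻¹ = q := Four.conj_prod ⟨hbp, hsq q hqQ, hcomm, hprod, hqb⟩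
  -- the four-group lies in the core
  have hqq1O : q * q1 ∈ O := by
    set π := QuotientGroup.mk' O with hπ
    have hs : Function.Surjective π := QuotientGroup.mk'_surjective O
    set T := Cfsg.pCore 3 (S ⧸ O)
    haveI : T.Normal := H1.pCore_normal' 3 _
    have hCT := H10.centralizer_pCore_le (p := 3) (G := S ⧸ O)
      (H10.isPSolvable_of_isSolvable) (H1.pPrimeCore_quotient_pPrimeCore 3)
    have hbT : π b ∈ T := by
      refine hCT (Subgroup.mem_centralizer_iff.2 fun t ht => ?_)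
      have ht' : t ∈ (P : Subgroup S).map π := by
        have := H1.pCore_le_sylow (P.mapSurjective hs) ht
        rwa [Sylow.coe_mapSurjective] at this
      obtain ⟨y, hy, rfl⟩ := ht'
      obtain ⟨z, hz, hzb⟩ := hBZ.ge hbB
      have h2 := congrArg Subtype.val (Subgroup.mem_center_iff.1 hz ⟨y, hy⟩)
      rw [← map_mul, ← map_mul, ← hzb]
      exact congrArg π h2
    have hqqT : π (q * q1) ∈ T := by
      have e : q * q1 = (q * b * q⁻¹) * b⁻¹ := by
        rw [inv_eq_of_mul_eq_one_right (hsq q hqQ), hq1]; group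
      rw [e, map_mul, map_mul, map_mul, map_inv, map_inv]
      exact T.mul_mem ((inferInstance : T.Normal).conj_mem _ hbT _) (T.inv_mem hbT)
    obtain ⟨k, hk⟩ := H1.isPGroup_pCore 3 (S ⧸ O) ⟨_, hqqT⟩
    have h2 : π (q * q1) ^ 2 = 1 := by
      rw [← map_pow, pow_two, hsq _ (Q.mul_mem hqQ hq1Q), map_one]
    have h3 : π (q * q1) ^ 3 ^ k = 1 := congrArg Subtype.val hk
    have h4 : orderOf (π (q * q1)) = 1 := Nat.eq_one_of_dvd_coprimes
      (((by norm_num : Nat.Coprime 2 3)).pow_right k) (orderOf_dvd_of_pow_eq_one h2)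
      (orderOf_dvd_of_pow_eq_one h3)
    rw [orderOf_eq_one_iff] at h4
    exact (QuotientGroup.eq_one_iff _).1 h4
  have hqO : q ∈ O := hconjp ▸ hOn.conj_mem _ hqq1O b
  have hq1O : q1 ∈ O := hOn.conj_mem _ hqO b
  -- `R = [O, B]`
  set R := ⁅O, B⁆ with hR
  have hBO : B ≤ Subgroup.normalizer (O : Set S) := Subgroup.le_normalizer_of_normal
  have hcopO : (Nat.card B).Coprime (Nat.card O) := hB ▸ (H1.card_pPrimeCore_coprime 3 S).symm
  have hRO : R ≤ O := H1.commutator_le_left_of_le_normalizer hBO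
  have hRR : ⁅R, B⁆ = R := H1.commutator_commutator_eq hBO hcopO (Or.inr inferInstance)
  have hqR : q ∈ R := by
    have h := Subgroup.commutator_mem_commutator hq1O hbB
    have e : ⁅q1, b⁆ = q := by
      rw [commutatorElement_def, inv_eq_of_mul_eq_one_right (hsq q1 hq1Q)]
      calc q1 * b * q1 * b⁻¹ = q1 * (b * q1 * b⁻¹) := by group
        _ = q := by rw [hprod, ← mul_assoc, hcomm.symm.eq, mul_assoc, hsq q1 hq1Q, mul_one]
    rwa [e] at h
  set Hs := R ⊔ B with hHs
  have hRH : R ≤ Hs := le_sup_left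
  have hbH : b ∈ Hs := le_sup_right (a := R) hbB
  have hnR : Hs ≤ Subgroup.normalizer (R : Set S) :=
    sup_le Subgroup.le_normalizer H1.right_le_normalizer_commutator
  have hconjR : ∀ h ∈ Hs, ∀ r ∈ R, h * r * h⁻¹ ∈ R := fun h hh r hr =>
    (Subgroup.mem_normalizer_iff.1 (hnR hh) r).1 hr
  have hgen : ∀ h ∈ Hs, ∃ r ∈ R, ∃ i : ℕ, h = r * b ^ i := by
    intro h hh
    haveI : (R.subgroupOf Hs).Normal := ⟨fun r hr g => hconjR g g.2 r hr⟩
    obtain ⟨⟨r, _⟩, hr, ⟨z, _⟩, hz, he⟩ := (Subgroup.mem_sup_of_normal_left (s := R.subgroupOf Hs)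
      (t := B.subgroupOf Hs) (x := (⟨h, hh⟩ : Hs))).1 (by
        rw [← Subgroup.subgroupOf_sup hRH le_sup_right, Subgroup.mem_subgroupOf]; exact hh)
    have he' : r * z = h := congrArg Subtype.val he
    subst he'
    obtain ⟨i, hi⟩ : ∃ i : ℕ, b ^ i = z :=
      (mem_powers_iff_mem_zpowers.2 (hb.symm ▸ hz) : z ∈ Submonoid.powers b)
    exact ⟨r, hr, i, by rw [hi]⟩
  have hRcop : (Nat.card R).Coprime 3 :=
    Nat.Coprime.coprime_dvd_left (Subgroup.card_dvd_of_le hRO) (H1.card_pPrimeCore_coprime 3 S)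
  -- the projection
  haveI := Fintype.ofFinite R
  let e : E →ₗ[ZMod 3] E := ∑ r : R, ρ (r : S)
  have he : ∀ v, e v = ∑ r : R, ρ (r : S) v := fun v => by simp [e, LinearMap.sum_apply]
  set F₀ := LinearMap.ker e with hF0
  let F₁ : Submodule (ZMod 3) E :=
    { carrier := {w | ∀ r ∈ R, ρ r w = w}
      zero_mem' := fun k _ => map_zero _
      add_mem' := fun {x y} hx hy k hk => by rw [map_add, hx k hk, hy k hk]
      smul_mem' := fun t x hx k hk => by rw [map_smul, hx k hk] }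
  have happ : ∀ g h : S, ∀ v, ρ (g * h) v = ρ g (ρ h v) := fun g h v => by rw [map_mul]; rfl
  have hinvap : ∀ g : S, ∀ v, ρ g⁻¹ (ρ g v) = v := fun g v => by
    rw [← happ, inv_mul_cancel, map_one]; rfl
  have heF1 : ∀ v, e v ∈ F₁ := fun v g hg => by
    rw [he, map_sum]
    simp only [← happ]
    exact Fintype.sum_equiv (Equiv.mulLeft (⟨g, hg⟩ : R)) _ (fun x : R => ρ (x : S) v) fun x => rfl
  set c : ZMod 3 := (Nat.card R : ZMod 3) with hc
  have hc0 : c ≠ 0 := fun h => by
    have h1 := (ZMod.natCast_eq_zero_iff _ _).1 h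
    exact Nat.not_prime_one ((Nat.eq_one_of_dvd_coprimes hRcop h1 dvd_rfl) ▸ Nat.prime_three)
  have heFix : ∀ v ∈ F₁, e v = c • v := fun v hv => by
    rw [he, Finset.sum_congr rfl fun (r : R) _ => hv r r.2, Finset.sum_const, Finset.card_univ, hc,
      Nat.card_eq_fintype_card, Nat.cast_smul_eq_nsmul]
  have hcompl : F₀ ⊓ F₁ = ⊥ ∧ F₀ ⊔ F₁ = ⊤ := by
    constructor
    · rw [eq_bot_iff]
      rintro v ⟨h0, h1⟩
      have := heFix v h1
      rw [LinearMap.mem_ker.1 h0] at this
      exact (Submodule.mem_bot _).2 ((smul_eq_zero.1 this.symm).resolve_left hc0)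
    · rw [eq_top_iff]
      intro v _
      refine Submodule.mem_sup.2 ⟨v - c⁻¹ • e v, ?_, c⁻¹ • e v, F₁.smul_mem _ (heF1 v),
        sub_add_cancel _ _⟩
      rw [LinearMap.mem_ker, map_sub, map_smul, heFix _ (heF1 v), smul_smul, inv_mul_cancel₀ hc0,
        one_smul, sub_self]
  have hF0inv : ∀ h ∈ Hs, ∀ v ∈ F₀, ρ h v ∈ F₀ := by
    intro h hh v hv
    rw [LinearMap.mem_ker, he] at hv ⊢
    have hmem : ∀ r : R, h⁻¹ * (r : S) * h ∈ R := fun r => by
      have := hconjR h⁻¹ (Hs.inv_mem hh) r r.2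
      rwa [inv_inv] at this
    have h2 : (∑ r : R, ρ (r : S) (ρ h v)) = ρ h (∑ r : R, ρ (r : S) v) := by
      rw [map_sum]
      simp only [← happ]
      refine Fintype.sum_equiv
        { toFun := fun r => (⟨_, hmem r⟩ : R)
          invFun := fun r => ⟨h * (r : S) * h⁻¹, hconjR h hh r r.2⟩
          left_inv := fun r => Subtype.ext (by show h * (h⁻¹ * (r : S) * h) * h⁻¹ = r; group)
          right_inv := fun r => Subtype.ext (by show h⁻¹ * (h * (r : S) * h⁻¹) * h = r; group) }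
        _ _ fun r => ?_
      show ρ ((r : S) * h) v = ρ (h * (h⁻¹ * (r : S) * h)) v
      rw [show h * (h⁻¹ * (r : S) * h) = r * h by group]
    rw [h2, hv, map_zero]
  -- the rank of `b - 1`
  set D := ρ b - 1 with hD
  have hDapp : ∀ v, D v = ρ b v - v := fun v => rfl
  have hrank : Module.finrank (ZMod 3) (LinearMap.range D) ≤ 2 := by
    have hsub : LinearMap.range D ≤ E₀.map D := by
      rintro _ ⟨v, rfl⟩
      obtain ⟨x, hx, y, hy, rfl⟩ := Submodule.mem_sup.1 (hE01'.ge (Submodule.mem_top : v ∈ ⊤))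
      exact ⟨x, hx, by rw [map_add, hDapp y, hE1 y hy, sub_self, add_zero]⟩
    refine (Submodule.finrank_mono hsub).trans ?_
    have hdim : Module.finrank (ZMod 3) E₀ = 3 := by
      have h := Module.natCard_eq_pow_finrank (K := ZMod 3) (V := E₀)
      rw [hE0, Nat.card_zmod] at h
      exact (Nat.pow_right_injective (le_refl 2 |>.trans (by norm_num)) (h.symm.trans (by norm_num : 27 = 3 ^ 3)))
    set f := D.domRestrict E₀
    have h1 := LinearMap.finrank_range_add_finrank_ker f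
    have h2 : LinearMap.range f = E₀.map D := LinearMap.range_domRestrict _ _
    have h3 : 1 ≤ Module.finrank (ZMod 3) (LinearMap.ker f) := by
      refine Submodule.one_le_finrank_iff.2 fun h => ?_
      have hinj : ∀ x ∈ E₀, D x = 0 → x = 0 := fun x hx h0 => by
        have h4 : (⟨x, hx⟩ : E₀) ∈ LinearMap.ker f := LinearMap.mem_ker.2 h0
        rw [h, Submodule.mem_bot] at h4
        exact congrArg Subtype.val h4
      have hDinv : ∀ x ∈ E₀, D x ∈ E₀ := fun x hx => E₀.sub_mem (hE0inv x hx) hx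
      have hD3 : ∀ w, D (D (D w)) = 0 := fun w => by
        have hb' : ρ b (ρ b (ρ b w)) = w := by
          rw [← happ, ← happ, show b * b * b = 1 by rw [← hbp, pow_succ, pow_two], map_one]
          rfl
        have h3 : ∀ u : E, u + u + u = 0 := fun u => by
          have : (3 : ZMod 3) • u = 0 := by rw [show (3 : ZMod 3) = 0 from rfl, zero_smul]
          rw [show (3 : ZMod 3) = 1 + 1 + 1 by norm_num, add_smul, add_smul, one_smul] at this
          exact this
        simp only [hDapp, map_sub, hb']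
        calc w - ρ b (ρ b w) - (ρ b (ρ b w) - ρ b w) - (ρ b (ρ b w) - ρ b w - (ρ b w - w))
            = (ρ b w + ρ b w + ρ b w) - (ρ b (ρ b w) + ρ b (ρ b w) + ρ b (ρ b w)) := by abel
          _ = 0 := by rw [h3, h3, sub_zero]
      have hbot : E₀ = ⊥ := (Submodule.eq_bot_iff _).2 fun x hx =>
        hinj x hx (hinj _ (hDinv x hx) (hinj _ (hDinv _ (hDinv x hx)) (hD3 x)))
      rw [hbot, finrank_bot] at hdim
      omega
    rw [h2, hdim] at h1
    omega
  have hfour : Four b q := ⟨hbp, hsq q hqQ, hcomm, hprod, hqb⟩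
  have hqH : q ∈ Hs := hRH hqR
  have hq1H : q1 ∈ Hs := Hs.mul_mem (Hs.mul_mem hbH hqH) (Hs.inv_mem hbH)
  let σ₀ : S →* Module.End (ZMod 3) E := ρ
  have hsig : ∀ g : S, σ₀ g = ρ g := fun g => rfl
  have hbinj : Function.Injective (ρ b) := Function.LeftInverse.injective (hinvap b)
  -- two independent displacements
  have hpair : ∀ w : E, w ≠ 0 → w ∈ eigLine σ₀ b q →
      LinearMap.range D ≤ Submodule.span (ZMod 3) {D w, D (ρ b w)} := by
    intro w hw0 hw
    obtain ⟨hw1, hw2⟩ := mem_eigLine.1 hw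
    obtain ⟨⟨a1, a2⟩, a3, a4⟩ := hfour.eig_images hw
    let f : (ZMod 3 × ZMod 3) →ₗ[ZMod 3] E :=
      (LinearMap.toSpanSingleton (ZMod 3) E (D w)).coprod (LinearMap.toSpanSingleton (ZMod 3) E (D (ρ b w)))
    have hf : Function.Injective f := by
      rw [← LinearMap.ker_eq_bot, LinearMap.ker_eq_bot']
      rintro ⟨s, t⟩ h
      have h1 : s • D w + t • D (ρ b w) = 0 := h
      have h2 : (-(s • w)) + ((s - t) • ρ b w) + t • ρ b (ρ b w) = 0 := by
        rw [← h1, hDapp, hDapp, smul_sub, smul_sub, sub_smul]; abel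
      have h3 := hfour.eig_indep (σ := σ₀) (x := -(s • w)) (y := (s - t) • ρ b w) (z := t • ρ b (ρ b w))
        (by rw [map_neg, map_smul, hw1]) (by rw [map_neg, map_smul, hw2, smul_neg])
        (by rw [map_smul, show σ₀ q (ρ b w) = _ from a1, smul_neg])
        (by rw [map_smul, show σ₀ (b * q * b⁻¹) (ρ b w) = _ from a2])
        (by rw [map_smul, show σ₀ q (ρ b (ρ b w)) = _ from a3, smul_neg])
        (by rw [map_smul, show σ₀ (b * q * b⁻¹) (ρ b (ρ b w)) = _ from a4, smul_neg]) h2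
      have hs : s = 0 := (smul_eq_zero.1 (neg_eq_zero.1 h3.1)).resolve_right hw0
      have ht : t = 0 := (smul_eq_zero.1 h3.2.2).resolve_right fun h =>
        hw0 (hbinj (hbinj (by rw [h, map_zero, map_zero])))
      rw [hs, ht]
      rfl
    have hle : LinearMap.range f ≤ Submodule.span (ZMod 3) {D w, D (ρ b w)} := by
      rintro _ ⟨⟨s, t⟩, rfl⟩
      exact Submodule.mem_span_pair.2 ⟨s, t, rfl⟩
    have hle2 : LinearMap.range f ≤ LinearMap.range D := by
      rintro _ ⟨⟨s, t⟩, rfl⟩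
      refine ⟨s • w + t • ρ b w, ?_⟩
      rw [map_add, map_smul, map_smul]
      rfl
    have h := LinearMap.finrank_range_of_inj hf
    rw [Module.finrank_prod, Module.finrank_self] at h
    exact (Submodule.eq_of_le_of_finrank_le hle2 (by omega)).ge.trans hle
  -- normal subgroups containing `b`
  have hRK : ∀ K : Subgroup S, b ∈ K → (∀ h ∈ Hs, ∀ k ∈ K, h * k * h⁻¹ ∈ K) → R ≤ K := by
    intro K hbK hKn
    rw [← hRR, Subgroup.commutator_le]
    intro r hr z hz
    rw [commutatorElement_def]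
    have hzK : z ∈ K := Subgroup.zpowers_le.2 hbK (hb.symm ▸ hz)
    exact K.mul_mem (hKn r (hRH hr) z hzK) (K.inv_mem hzK)
  have hmoveF0 : ∃ v ∈ F₀, ρ q v ≠ v := by
    by_contra h
    push Not at h
    refine hq_ne (hfaith (LinearMap.ext fun v => ?_))
    obtain ⟨x, hx, y, hy, rfl⟩ := Submodule.mem_sup.1 (hcompl.2.ge (Submodule.mem_top : v ∈ ⊤))
    rw [map_add, h x hx, hy q hqR, map_one]
    rfl
  obtain ⟨v₀, hv₀, hv₀q⟩ := hmoveF0
  obtain ⟨w, hwF, hw0, hweig⟩ := hfour.exists_eig (σ := σ₀) F₀ (fun g hg v hv => by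
    simp only [Set.mem_insert_iff, Set.mem_singleton_iff] at hg
    rcases hg with rfl | rfl | rfl
    · exact hF0inv _ hbH v hv
    · exact hF0inv _ hqH v hv
    · exact hF0inv _ hq1H v hv) hv₀ hv₀q
  have hbwF : ρ b w ∈ F₀ := hF0inv b hbH w hwF
  -- `b` fixes the fixed points of `R`
  have hbF1 : ∀ v ∈ F₁, ρ b v = v := by
    intro v hv
    have h1 : D v ∈ F₀ := by
      have h2 := hpair w hw0 hweig ⟨v, rfl⟩
      refine Submodule.span_le.2 ?_ h2
      rintro _ (rfl | rfl)
      · exact F₀.sub_mem hbwF hwF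
      · exact F₀.sub_mem (hF0inv b hbH _ hbwF) hbwF
    have h2 : D v ∈ F₁ := by
      refine F₁.sub_mem ?_ hv
      intro r hr
      have h3 := hv (b⁻¹ * r * b) (by
        have := hconjR b⁻¹ (Hs.inv_mem hbH) r hr
        rwa [inv_inv] at this)
      conv_rhs => rw [← h3]
      rw [← happ, ← happ, show b * (b⁻¹ * r * b) = r * b by group]
    have h3 : D v ∈ (⊥ : Submodule (ZMod 3) E) := hcompl.1 ▸ ⟨h1, h2⟩
    exact sub_eq_zero.1 ((Submodule.mem_bot _).1 h3)
  have hfaith0 : ∀ h ∈ Hs, (∀ v ∈ F₀, ρ h v = v) → h = 1 := by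
    intro h hh hfix
    refine hfaith (LinearMap.ext fun v => ?_)
    obtain ⟨x, hx, y, hy, rfl⟩ := Submodule.mem_sup.1 (hcompl.2.ge (Submodule.mem_top : v ∈ ⊤))
    obtain ⟨r, hr, i, rfl⟩ := hgen h hh
    have hbi : ∀ i : ℕ, ρ (b ^ i) y = y := fun i => by
      induction i with
      | zero => rw [pow_zero, map_one]; rfl
      | succ i ih => rw [pow_succ', happ, ih, hbF1 y hy]
    rw [map_add, hfix x hx, happ, hbi i, hy r hr, map_one]
    rfl
  have hirr : ∀ N : Submodule (ZMod 3) E, N ≤ F₀ → (∀ r ∈ Hs, ∀ v ∈ N, ρ r v ∈ N) → N = ⊥ ∨ N = F₀ := by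
    intro N hNF hN
    by_cases hmv : ∃ v ∈ N, ρ q v ≠ v
    · right
      obtain ⟨v, hv, hvq⟩ := hmv
      obtain ⟨u, huN, hu0, hueig⟩ := hfour.exists_eig (σ := σ₀) N (fun g hg v hv => by
        simp only [Set.mem_insert_iff, Set.mem_singleton_iff] at hg
        rcases hg with rfl | rfl | rfl
        · exact hN _ hbH v hv
        · exact hN _ hqH v hv
        · exact hN _ hq1H v hv) hv hvq
      have hDN : ∀ x, D x ∈ N := fun x => by
        refine Submodule.span_le.2 ?_ (hpair u hu0 hueig ⟨x, rfl⟩)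
        rintro _ (rfl | rfl)
        · exact N.sub_mem (hN b hbH u huN) huN
        · exact N.sub_mem (hN b hbH _ (hN b hbH u huN)) (hN b hbH u huN)
      refine le_antisymm hNF fun x hx => ?_
      let K : Subgroup S :=
        { carrier := {h | h ∈ Hs ∧ ∀ y ∈ F₀, ρ h y - y ∈ N}
          one_mem' := ⟨Hs.one_mem, fun y _ => by rw [map_one]; simp⟩
          mul_mem' := fun {g g'} hg hg' => ⟨Hs.mul_mem hg.1 hg'.1, fun y hy => by
            rw [happ, ← sub_add_sub_cancel _ (ρ g' y) y]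
            exact N.add_mem (hg.2 _ (hF0inv g' hg'.1 y hy)) (hg'.2 y hy)⟩
          inv_mem' := fun {g} hg => ⟨Hs.inv_mem hg.1, fun y hy => by
            have h1 := hN g⁻¹ (Hs.inv_mem hg.1) _ (hg.2 y hy)
            rw [map_sub, hinvap] at h1
            have := N.neg_mem h1
            rwa [neg_sub] at this⟩ }
      have hK : R ≤ K := hRK K ⟨hbH, fun y _ => hDN y⟩ fun h hh k hk =>
        ⟨Hs.mul_mem (Hs.mul_mem hh hk.1) (Hs.inv_mem hh), fun y hy => by
          have h1 := hN h hh _ (hk.2 _ (hF0inv h⁻¹ (Hs.inv_mem hh) y hy))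
          rw [map_sub, ← happ, ← happ, ← happ, mul_inv_cancel, map_one, Module.End.one_apply] at h1
          exact h1⟩
      have h1 : (∑ r : R, (ρ (r : S) x - x)) ∈ N := Submodule.sum_mem _ fun r _ => (hK r.2).2 x hx
      rw [Finset.sum_sub_distrib, ← he, LinearMap.mem_ker.1 hx, zero_sub, Finset.sum_const,
        Finset.card_univ, ← Nat.card_eq_fintype_card, ← Nat.cast_smul_eq_nsmul (ZMod 3),
        neg_mem_iff, ← hc] at h1
      simpa [smul_smul, inv_mul_cancel₀ hc0] using N.smul_mem c⁻¹ h1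
    · left
      push Not at hmv
      have hq1fix : ∀ v ∈ N, ρ q1 v = v := fun v hv => by
        have h1 := hmv (ρ b⁻¹ v) (hN b⁻¹ (Hs.inv_mem hbH) v hv)
        rw [hq1, happ, happ, h1, ← happ, mul_inv_cancel, map_one]
        rfl
      have hDN0 : ∀ n ∈ N, D n = 0 := by
        intro n hn
        obtain ⟨s, t, hst⟩ := Submodule.mem_span_pair.1 (hpair w hw0 hweig ⟨n, rfl⟩)
        have hmem : D n ∈ N := N.sub_mem (hN b hbH n hn) hn
        obtain ⟨hw1, hw2⟩ := mem_eigLine.1 hweig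
        obtain ⟨⟨a1, a2⟩, a3, a4⟩ := hfour.eig_images hweig
        have hX : D n = -(s • w) + ((s - t) • ρ b w) + t • ρ b (ρ b w) := by
          rw [← hst, hDapp, hDapp, smul_sub, smul_sub, sub_smul]; abel
        set x := -(s • w)
        set y := (s - t) • ρ b w
        set z := t • ρ b (ρ b w)
        have hx1 : ρ q x = x := by
          show ρ q (-(s • w)) = _
          rw [map_neg, map_smul, show ρ q w = w from hw1]
        have hx2 : ρ q1 x = -x := by
          show ρ q1 (-(s • w)) = _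
          rw [map_neg, map_smul, show ρ q1 w = -w from hw2, smul_neg]
        have hy1 : ρ q y = -y := by
          show ρ q ((s - t) • ρ b w) = _
          rw [map_smul, show ρ q (ρ b w) = -ρ b w from a1, smul_neg]
        have hy2 : ρ q1 y = y := by
          show ρ q1 ((s - t) • ρ b w) = _
          rw [map_smul, show ρ q1 (ρ b w) = ρ b w from a2]
        have hz1 : ρ q z = -z := by
          show ρ q (t • ρ b (ρ b w)) = _
          rw [map_smul, show ρ q (ρ b (ρ b w)) = -ρ b (ρ b w) from a3, smul_neg]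
        have hz2 : ρ q1 z = -z := by
          show ρ q1 (t • ρ b (ρ b w)) = _
          rw [map_smul, show ρ q1 (ρ b (ρ b w)) = -ρ b (ρ b w) from a4, smul_neg]
        have e1 := hmv (D n) hmem
        have e2 := hq1fix (D n) hmem
        rw [hX, map_add, map_add, hx1, hy1, hz1] at e1
        rw [hX, map_add, map_add, hx2, hy2, hz2] at e2
        have f1 : y + z = 0 := eq_zero_of_eq_neg (by
          calc y + z = (x + y + z) - x := by abel
            _ = (x + -y + -z) - x := by rw [e1]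
            _ = -(y + z) := by abel)
        have f2 : x + z = 0 := eq_zero_of_eq_neg (by
          calc x + z = (x + y + z) - y := by abel
            _ = (-x + y + -z) - y := by rw [e2]
            _ = -(x + z) := by abel)
        obtain ⟨-, -, z0⟩ := hfour.eig_indep (σ := σ₀) (x := (0 : E)) (y := y) (z := z)
          (map_zero _) (by rw [map_zero, neg_zero]) hy1 hy2 hz1 hz2 (by rw [zero_add]; exact f1)
        rw [z0, add_zero] at f1 f2
        rw [hX, f1, f2, z0, add_zero, add_zero]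
      let K : Subgroup S :=
        { carrier := {h | h ∈ Hs ∧ ∀ y ∈ N, ρ h y = y}
          one_mem' := ⟨Hs.one_mem, fun y _ => by rw [map_one]; rfl⟩
          mul_mem' := fun {g g'} hg hg' => ⟨Hs.mul_mem hg.1 hg'.1, fun y hy => by
            rw [happ, hg'.2 y hy, hg.2 y hy]⟩
          inv_mem' := fun {g} hg => ⟨Hs.inv_mem hg.1, fun y hy => by
            conv_lhs => rw [← hg.2 y hy]
            rw [hinvap]⟩ }
      have hK : R ≤ K := hRK K ⟨hbH, fun y hy => sub_eq_zero.1 (hDN0 y hy)⟩ fun h hh k hk =>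
        ⟨Hs.mul_mem (Hs.mul_mem hh hk.1) (Hs.inv_mem hh), fun y hy => by
          rw [happ, happ, hk.2 _ (hN h⁻¹ (Hs.inv_mem hh) y hy), ← happ, mul_inv_cancel, map_one]
          rfl⟩
      rw [eq_bot_iff]
      intro x hx
      rw [← hcompl.1]
      exact ⟨hNF hx, fun r hr => (hK hr).2 x hx⟩
  refine ⟨?_, F₀, F₁, hcompl.1, hcompl.2, fun r hr v hv => hv r hr, hF0inv, hfaith0, hirr⟩
  -- the block theorem on `F₀`
  let σ : Hs →* Module.End (ZMod 3) F₀ :=
    { toFun := fun h => (ρ (h : S)).restrict fun v hv => hF0inv h h.2 v hv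
      map_one' := LinearMap.ext fun v => Subtype.ext (by
        show ρ ((1 : Hs) : S) (v : E) = v
        rw [OneMemClass.coe_one, map_one]; rfl)
      map_mul' := fun g h => LinearMap.ext fun v => Subtype.ext (by
        show ρ ((g * h : Hs) : S) (v : E) = ρ (g : S) (ρ (h : S) (v : E))
        rw [Subgroup.coe_mul, happ]) }
  have hσ : ∀ (h : Hs) (v : F₀), ((σ h v : F₀) : E) = ρ (h : S) v := fun h v => rfl
  set R0 := R.subgroupOf Hs with hR0
  have hR0e : R0.map Hs.subtype = R := by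
    rw [hR0, Subgroup.subgroupOf_map_subtype, inf_eq_left.2 hRH]
  have hcard0 : Nat.card R0 = Nat.card R := by
    rw [hR0, Nat.card_congr (Subgroup.subgroupOfEquivOfLe hRH).toEquiv]
  have setup : Setup σ R0 ⟨b, hbH⟩ ⟨q, hqH⟩ := by
    refine ⟨fun g h hgh => ?_, ⟨fun r hr g => hconjR g g.2 r hr⟩, Subtype.ext hbp, fun h => ?_,
      hcard0 ▸ hRcop, ?_, ?_, hqR, Subtype.ext (hsq q hqQ), Subtype.ext hcomm.eq,
      Subtype.ext hprod, fun h => hqb (congrArg Subtype.val h), fun N hN => ?_, ?_⟩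
    · have h1 : g⁻¹ * h = 1 := Subtype.ext (hfaith0 _ (g⁻¹ * h : Hs).2 fun v hv => by
        have h3 : ρ (h : S) v = ρ (g : S) v :=
          (congrArg (fun f : Module.End (ZMod 3) F₀ => ((f ⟨v, hv⟩ : F₀) : E)) hgh).symm
        rw [Subgroup.coe_mul, happ, h3, Subgroup.coe_inv, hinvap])
      exact inv_mul_eq_one.1 h1
    · obtain ⟨r, hr, i, hi⟩ := hgen h h.2
      exact ⟨⟨r, hRH hr⟩, hr, i, Subtype.ext hi⟩
    · exact inferInstance
    · intro x hx
      have h1 : ((x : Hs) : S) ∈ (⁅R0, Subgroup.zpowers (⟨b, hbH⟩ : Hs)⁆).map Hs.subtype := by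
        rw [Subgroup.map_commutator, hR0e, MonoidHom.map_zpowers]
        show (x : S) ∈ ⁅R, Subgroup.zpowers b⁆
        rw [hb, hRR]
        exact hx
      obtain ⟨y, hy, hyx⟩ := h1
      exact Subtype.ext hyx ▸ hy
    · rcases hirr (N.map F₀.subtype) (Submodule.map_subtype_le _ _) (by
          rintro r hr _ ⟨v, hv, rfl⟩
          exact ⟨σ ⟨r, hr⟩ v, hN _ v hv, rfl⟩) with h | h
      · left
        rw [Submodule.eq_bot_iff]
        intro v hv
        have : (v : E) ∈ N.map F₀.subtype := ⟨v, hv, rfl⟩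
        rw [h, Submodule.mem_bot] at this
        exact Subtype.ext this
      · right
        rw [eq_top_iff]
        intro v _
        obtain ⟨u, hu, huv⟩ := h.ge v.2
        exact Subtype.ext huv ▸ hu
    · refine le_trans ?_ hrank
      let f : LinearMap.range (σ ⟨b, hbH⟩ - 1) →ₗ[ZMod 3] LinearMap.range D :=
        LinearMap.codRestrict _ ((F₀.subtype).comp (Submodule.subtype _)) (by
          rintro ⟨_, v, rfl⟩
          exact ⟨(v : E), rfl⟩)
      refine LinearMap.finrank_le_finrank_of_injective (f := f) fun x y h => ?_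
      exact Subtype.ext (Subtype.ext (congrArg (fun z : LinearMap.range D => (z : E)) h))
  have hA : ∀ A : Subgroup Hs, Cfsg.IsElementaryAbelian 2 A →
      Cfsg.IsElementaryAbelian 2 (A.map Hs.subtype) := fun A h => ⟨⟨⟨by
        rintro ⟨_, x, hx, rfl⟩ ⟨_, y, hy, rfl⟩
        refine Subtype.ext ?_
        show (x : S) * y = y * x
        exact congrArg (fun z : A => ((z : Hs) : S)) (h.1.is_comm.comm (⟨x, hx⟩ : A) ⟨y, hy⟩)⟩⟩, by
        rintro _ ⟨x, hx, rfl⟩
        rw [← map_pow, h.2 x hx, map_one]⟩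
  rcases setup.block with ⟨h1, h2⟩ | ⟨h1, h2, A, hAR, hA1, hA2⟩
  · exact Or.inl ⟨hR0e ▸ hA R0 h1, hcard0 ▸ h2⟩
  · refine Or.inr ⟨H68.isExtraspecial_of_equiv (Subgroup.subgroupOfEquivOfLe hRH) h1, hcard0 ▸ h2,
      A.map Hs.subtype, (Subgroup.map_mono hAR).trans hR0e.le, hA A hA1, ?_⟩
    rw [Subgroup.card_map_of_injective Hs.subtype_injective]
    exact hA2

end H88.Cubic
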