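import Mathlib

/-!
A transitive permutation group, generated modulo a normal subgroup of order prime to three by an
element moving exactly three points, has at most four points; small facts on permutations of three
and four points; the determinant of a monomial map.
-/

set_option autoImplicit false
set_option linter.unusedSectionVars false

namespace H88.Cubic

open Equiv

variable {X : Type*} [Fintype X] [DecidableEq X]

/-- Two three-cycles with exactly one common point generate a five-cycle. -/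
theorem mul_pow_five (c d : Perm X) (a x y u v : X) (c1 : c a = x) (c2 : c x = y) (c3 : c y = a)
    (d1 : d a = u) (d2 : d u = v) (d3 : d v = a)
    (hc : ∀ z, z ≠ a → z ≠ x → z ≠ y → c z = z) (hd : ∀ z, z ≠ a → z ≠ u → z ≠ v → d z = z)
    (h1 : x ≠ a) (h2 : y ≠ a) (h3 : x ≠ u) (h4 : x ≠ v) (h5 : y ≠ u) (h6 : y ≠ v)
    (h7 : u ≠ a) (h8 : v ≠ a) : (d * c) ^ 5 = 1 := by
  have s1 : d (c a) = x := by rw [c1, hd x h1 h3 h4]
  have s2 : d (c x) = y := by rw [c2, hd y h2 h5 h6]
  have s3 : d (c y) = u := by rw [c3, d1]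
  have s4 : d (c u) = v := by rw [hc u h7 h3.symm h5.symm, d2]
  have s5 : d (c v) = a := by rw [hc v h8 h4.symm h6.symm, d3]
  ext z
  simp only [pow_succ, pow_zero, one_mul, Perm.mul_apply, Perm.one_apply]
  by_cases za : z = a
  · subst za; rw [s1, s2, s3, s4, s5]
  by_cases zx : z = x
  · subst zx; rw [s2, s3, s4, s5, s1]
  by_cases zy : z = y
  · subst zy; rw [s3, s4, s5, s1, s2]
  by_cases zu : z = u
  · subst zu; rw [s4, s5, s1, s2, s3]
  by_cases zv : z = v
  · subst zv; rw [s5, s1, s2, s3, s4]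
  have e : d (c z) = z := by rw [hc z za zx zy, hd z za zu zv]
  rw [e, e, e, e, e]

theorem card_le_four (P : Subgroup (Perm X)) (c : Perm X) (hP : ∀ p ∈ P, p ^ 3 = 1 → p = 1)
    (hcP : ∀ p ∈ P, c * p * c⁻¹ ∈ P) (hc3 : c ^ 3 = 1) (x₀ : X) (hx₀ : c x₀ ≠ x₀)
    (hsupp : ∀ z, z ≠ x₀ → z ≠ c x₀ → z ≠ c (c x₀) → c z = z)
    (htrans : ∀ z, ∃ p ∈ P, ∃ i : ℕ, z = p ((c ^ i) x₀)) : Fintype.card X ≤ 4 := by
  have hcapp : ∀ z, c (c (c z)) = z := fun z => by
    have := Equiv.ext_iff.1 hc3 z
    simpa [pow_succ, Perm.mul_apply] using this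
  have hne2 : c (c x₀) ≠ x₀ := fun h => hx₀ (by
    conv_rhs => rw [← hcapp x₀]
    rw [h])
  have hne12 : c (c x₀) ≠ c x₀ := fun h => hx₀ (c.injective h)
  set T : Finset X := {x₀, c x₀, c (c x₀)} with hT
  have hTc : T.card = 3 := by
    rw [hT]
    simp [Finset.card_insert_of_notMem, hx₀.symm, hne2.symm, hne12.symm]
  have hTmem : ∀ z, z ∈ T ↔ z = x₀ ∨ z = c x₀ ∨ z = c (c x₀) := fun z => by simp [hT]
  have hfix : ∀ z, z ∉ T → c z = z := fun z hz => by
    rw [hTmem] at hz
    push Not at hz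
    exact hsupp z hz.1 hz.2.1 hz.2.2
  have hcT : ∀ z ∈ T, c z ∈ T := fun z hz => by
    rw [hTmem] at hz ⊢
    rcases hz with rfl | rfl | rfl
    · exact Or.inr (Or.inl rfl)
    · exact Or.inr (Or.inr rfl)
    · exact Or.inl (hcapp x₀)
  have hciT : ∀ (i : ℕ), ∀ z ∈ T, (c ^ i) z ∈ T := by
    intro i
    induction i with
    | zero => intro z hz; simpa using hz
    | succ i ih => intro z hz; rw [pow_succ, Perm.mul_apply]; exact ih _ (hcT z hz)
  have hmoved : ∀ z ∈ T, c z ≠ z ∧ c (c z) ≠ z := fun z hz => by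
    rw [hTmem] at hz
    rcases hz with rfl | rfl | rfl
    · exact ⟨hx₀, hne2⟩
    · exact ⟨hne12, fun h => hx₀ (by rw [hcapp] at h; exact h.symm)⟩
    · exact ⟨by rw [hcapp]; exact hne2.symm, by rw [hcapp]; exact hne12.symm⟩
  let im : Perm X → Finset X := fun p => T.image p
  have himem : ∀ (p : Perm X) z, z ∈ im p ↔ p⁻¹ z ∈ T := fun p z => by
    simp only [im, Finset.mem_image]
    exact ⟨fun ⟨w, hw, he⟩ => by rw [← he, Perm.inv_def, Equiv.symm_apply_apply]; exact hw,
      fun h => ⟨_, h, by simp⟩⟩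
  have hcc : ∀ (p : Perm X), p ∈ P → ∀ z, z ∉ im p → (p * c * p⁻¹) z = z := fun p _ z hz => by
    rw [himem] at hz
    rw [Perm.mul_apply, Perm.mul_apply, hfix _ hz]
    simp
  have hcapp' : ∀ (p : Perm X) (w : X), (p * c * p⁻¹) (p w) = p (c w) := fun p w => by simp
  -- two triples meet in at least two points
  have hmeet₁ : ∀ p ∈ P, 2 ≤ (T ∩ im p).card := by
    intro p hp
    set d := p * c * p⁻¹ with hd
    have hdP : d * c⁻¹ ∈ P := by
      have h1 := P.mul_mem hp (hcP _ (P.inv_mem hp))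
      rwa [← mul_assoc, ← mul_assoc, ← hd] at h1
    by_contra hlt
    rcases Nat.lt_or_ge (T ∩ im p).card 1 with h0 | h1
    · -- disjoint supports
      have hdis : ∀ z ∈ T, z ∉ im p := fun z hz hz' => by
        have hpos := Finset.card_pos.2 ⟨z, Finset.mem_inter.2 ⟨hz, hz'⟩⟩
        omega
      have hpc : Perm.Disjoint d c := fun z => by
        by_cases hz : z ∈ T
        · exact Or.inl (hcc p hp z (hdis z hz))
        · exact Or.inr (hfix z hz)
      have h3 : (d * c⁻¹) ^ 3 = 1 := by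
        rw [(hpc.commute.inv_right).mul_pow, inv_pow, hc3, inv_one, mul_one, hd, conj_pow, hc3,
          mul_one, mul_inv_cancel]
      have heq : d = c := mul_inv_eq_one.1 (hP _ hdP h3)
      exact (hmoved x₀ (by simp [hT])).1
        (by rw [← heq]; exact hcc p hp x₀ (hdis x₀ (by simp [hT])))
    · have h1' : (T ∩ im p).card = 1 := by omega
      obtain ⟨a, ha⟩ := Finset.card_eq_one.1 h1'
      have haT : a ∈ T := (Finset.mem_inter.1 (ha ▸ Finset.mem_singleton_self a)).1
      have hap : a ∈ im p := (Finset.mem_inter.1 (ha ▸ Finset.mem_singleton_self a)).2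
      have honly : ∀ z ∈ T, z ∈ im p → z = a := fun z h1 h2 =>
        Finset.mem_singleton.1 (ha ▸ Finset.mem_inter.2 ⟨h1, h2⟩)
      set w := p⁻¹ a with hw
      have hwT : w ∈ T := (himem p a).1 hap
      have hpw : p w = a := by rw [hw]; simp
      have hsuppT : ∀ {t : X}, t ∈ T → ∀ z, z ≠ t → z ≠ c t → z ≠ c (c t) → z ∉ T := by
        intro t ht z z1 z2 z3 hz
        rw [hTmem] at ht hz
        rcases ht with rfl | rfl | rfl <;> rcases hz with rfl | rfl | rfl <;>
          simp [hcapp] at z1 z2 z3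
      have hTw : ∀ z, z ≠ a → z ≠ p (c w) → z ≠ p (c (c w)) → z ∉ im p := fun z z1 z2 z3 hz => by
        have h := (himem p z).1 hz
        refine hsuppT hwT (p⁻¹ z) ?_ ?_ ?_ h
        · rintro e; exact z1 (by rw [← hpw, ← e]; simp)
        · rintro e; exact z2 (by rw [← e]; simp)
        · rintro e; exact z3 (by rw [← e]; simp)
      have hin : ∀ t ∈ T, p t ∈ im p := fun t ht => Finset.mem_image_of_mem p ht
      have n1 : p (c w) ≠ a := fun e => (hmoved w hwT).1 (p.injective (e.trans hpw.symm))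
      have n2 : p (c (c w)) ≠ a := fun e => (hmoved w hwT).2 (p.injective (e.trans hpw.symm))
      have h5 := mul_pow_five c d a (c a) (c (c a)) (p (c w)) (p (c (c w))) rfl rfl (hcapp a)
        (by rw [← hpw, hcapp']) (hcapp' p _) (by rw [hcapp' p, hcapp]; exact hpw)
        (fun z z1 z2 z3 => hfix z (hsuppT haT z z1 z2 z3))
        (fun z z1 z2 z3 => hcc p hp z (hTw z z1 z2 z3))
        (hmoved a haT).1 (hmoved a haT).2
        (fun e => (hmoved a haT).1 (honly _ (hcT a haT) (e ▸ hin _ (hcT w hwT))))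
        (fun e => (hmoved a haT).1 (honly _ (hcT a haT) (e ▸ hin _ (hcT _ (hcT w hwT)))))
        (fun e => (hmoved a haT).2 (honly _ (hcT _ (hcT a haT)) (e ▸ hin _ (hcT w hwT))))
        (fun e => (hmoved a haT).2 (honly _ (hcT _ (hcT a haT)) (e ▸ hin _ (hcT _ (hcT w hwT)))))
        n1 n2
      -- `(dc)^5` lies in the coset `P c`
      have hpow : ∀ k : ℕ, (d * c) ^ k * c⁻¹ ^ (2 * k) ∈ P := by
        intro k
        induction k with
        | zero => simp
        | succ k ih =>
          have hconj : ∀ (m : ℕ) (t : Perm X), t ∈ P → c ^ m * t * (c ^ m)⁻¹ ∈ P := by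
            intro m
            induction m with
            | zero => intro t ht; simpa using ht
            | succ m ihm =>
              intro t ht
              have := ihm _ (hcP t ht)
              simpa [pow_succ, mul_assoc] using this
          have h2 : d * c * c⁻¹ ^ 2 ∈ P := by
            rw [show d * c * c⁻¹ ^ 2 = d * c⁻¹ by group]; exact hdP
          have h3 := P.mul_mem ih (hconj (2 * k) _ h2)
          have e : (d * c) ^ (k + 1) * c⁻¹ ^ (2 * (k + 1)) =
              ((d * c) ^ k * c⁻¹ ^ (2 * k)) * (c ^ (2 * k) * (d * c * c⁻¹ ^ 2) * (c ^ (2 * k))⁻¹) := by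
            rw [pow_succ, show 2 * (k + 1) = 2 + 2 * k by ring, pow_add, inv_pow, inv_pow]
            group
          rw [e]
          exact h3
      have h6 := hpow 5
      rw [h5, one_mul, show 2 * 5 = 3 * 3 + 1 from rfl, pow_succ, pow_mul, inv_pow, hc3, inv_one,
        one_pow, one_mul] at h6
      have hc1 : c = 1 := hP c (by simpa using P.inv_mem h6) hc3
      exact hx₀ (by rw [hc1]; rfl)
  have hmeet : ∀ p ∈ P, ∀ r ∈ P, 2 ≤ (im p ∩ im r).card := fun p hp r hr => by
    have h := hmeet₁ (p⁻¹ * r) (P.mul_mem (P.inv_mem hp) hr)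
    have e : (T ∩ im (p⁻¹ * r)).image p = im p ∩ im r := by
      rw [Finset.image_inter _ _ p.injective, Finset.image_image]
      congr 2
      funext z
      simp
    rwa [← e, Finset.card_image_of_injective _ p.injective]
  have hcov : ∀ z, ∃ p ∈ P, z ∈ im p := fun z => by
    obtain ⟨p, hp, i, hi⟩ := htrans z
    exact ⟨p, hp, Finset.mem_image.2 ⟨_, hciT i x₀ (by simp [hT]), hi.symm⟩⟩
  by_contra hbig
  push Not at hbig
  obtain ⟨w, hw⟩ : ∃ w, w ∉ T := by
    by_contra h
    push Not at h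
    have := Finset.card_le_card (show (Finset.univ : Finset X) ⊆ T from fun z _ => h z)
    rw [Finset.card_univ] at this; omega
  obtain ⟨w', hw'⟩ : ∃ w', w' ∉ insert w T := by
    by_contra h
    push Not at h
    have := (Finset.card_le_card (show (Finset.univ : Finset X) ⊆ insert w T from fun z _ => h z)).trans
      (Finset.card_insert_le w T)
    rw [Finset.card_univ] at this; omega
  have hww : w' ≠ w := fun h => hw' (h ▸ Finset.mem_insert_self w T)
  have hw'T : w' ∉ T := fun h => hw' (Finset.mem_insert_of_mem h)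
  have hshape : ∀ p ∈ P, ∀ z ∈ im p, z ∉ T →
      ∃ t ∈ T, ∀ y, y ∈ im p ↔ y = z ∨ (y ∈ T ∧ y ≠ t) := by
    intro p hp z hz hzT
    have h2 := hmeet₁ p hp
    have h3 : (im p).card = 3 := by rw [Finset.card_image_of_injective _ p.injective, hTc]
    have hsub : T ∩ im p ⊆ (im p).erase z := fun y hy => Finset.mem_erase.2
      ⟨fun e => hzT (e ▸ (Finset.mem_inter.1 hy).1), (Finset.mem_inter.1 hy).2⟩
    have he := Finset.eq_of_subset_of_card_le hsub (by rw [Finset.card_erase_of_mem hz]; omega)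
    have hcard : (T \ im p).card = 1 := by
      have := Finset.card_sdiff_add_card_inter T (im p)
      have : (T ∩ im p).card = 2 := by rw [he, Finset.card_erase_of_mem hz, h3]
      omega
    obtain ⟨t, ht⟩ := Finset.card_eq_one.1 hcard
    have ht' : t ∈ T \ im p := ht ▸ Finset.mem_singleton_self t
    rw [Finset.mem_sdiff] at ht'
    refine ⟨t, ht'.1, fun y => ⟨fun hy => ?_, ?_⟩⟩
    · by_cases hyz : y = z
      · exact Or.inl hyz
      · have := he.ge (Finset.mem_erase.2 ⟨hyz, hy⟩)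
        exact Or.inr ⟨(Finset.mem_inter.1 this).1, fun e => ht'.2 (e ▸ hy)⟩
    · rintro (rfl | ⟨hyT, hyt⟩)
      · exact hz
      · by_contra hy
        exact hyt (Finset.mem_singleton.1 (ht ▸ Finset.mem_sdiff.2 ⟨hyT, hy⟩))
  obtain ⟨p, hp, hwp⟩ := hcov w
  obtain ⟨r, hr, hwr⟩ := hcov w'
  obtain ⟨t, htT, hpt⟩ := hshape p hp w hwp hw
  obtain ⟨t', ht'T, hrt⟩ := hshape r hr w' hwr hw'T
  obtain ⟨g, hg, hgw, u, huT, hgu, hne⟩ : ∃ g ∈ P, w ∈ im g ∧ ∃ u ∈ T,
      (∀ y, y ∈ im g ↔ y = w ∨ (y ∈ T ∧ y ≠ u)) ∧ u ≠ t' := by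
    by_cases h : t = t'
    swap
    · exact ⟨p, hp, hwp, t, htT, hpt, h⟩
    have hg := hcP p hp
    have hgim : ∀ y, y ∈ im (c * p * c⁻¹) ↔ c⁻¹ y ∈ im p := fun y => by
      rw [himem, himem]
      simp only [mul_inv_rev, inv_inv, Perm.mul_apply]
      constructor
      · intro h
        by_contra hn
        rw [hfix _ hn] at h
        exact hn h
      · exact hcT _
    have hcinvT : ∀ y, c⁻¹ y ∈ T ↔ y ∈ T := fun y => by
      have e : c⁻¹ y = c (c y) := by
        rw [Perm.inv_def, Equiv.symm_apply_eq, hcapp]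
      rw [e]
      exact ⟨fun h => by have := hcT _ h; rwa [hcapp] at this, fun h => hcT _ (hcT _ h)⟩
    have hcw : c⁻¹ w = w := by rw [Perm.inv_def, Equiv.symm_apply_eq, hfix w hw]
    refine ⟨c * p * c⁻¹, hg, (hgim w).2 (hcw.symm ▸ hwp), c t, hcT t htT, fun y => ?_,
      fun e => (hmoved t htT).1 (e.trans h.symm)⟩
    rw [hgim, hpt, hcinvT]
    constructor
    · rintro (h1 | ⟨h1, h2⟩)
      · exact Or.inl (by rw [← hfix w hw, ← h1]; simp)
      · exact Or.inr ⟨h1, fun e => h2 (by rw [e]; simp)⟩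
    · rintro (rfl | ⟨h1, h2⟩)
      · exact Or.inl hcw
      · exact Or.inr ⟨h1, fun e => h2 (by rw [← e]; simp)⟩
  have h2 := hmeet g hg r hr
  have hsub : im g ∩ im r ⊆ (T.erase u).erase t' := by
    intro y hy
    obtain ⟨h1, h3⟩ := Finset.mem_inter.1 hy
    rcases (hgu y).1 h1 with rfl | ⟨hyT, hyu⟩
    · rcases (hrt y).1 h3 with rfl | ⟨hyT, -⟩
      · exact absurd rfl hww
      · exact absurd hyT hw
    · rcases (hrt y).1 h3 with rfl | ⟨-, hyt⟩
      · exact absurd hyT hw'T
      · exact Finset.mem_erase.2 ⟨hyt, Finset.mem_erase.2 ⟨hyu, hyT⟩⟩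
  have := Finset.card_le_card hsub
  rw [Finset.card_erase_of_mem (Finset.mem_erase.2 ⟨hne.symm, ht'T⟩),
    Finset.card_erase_of_mem huT, hTc] at this
  omega

theorem perm_fin_three : ∀ e : Perm (Fin 3), Perm.sign e = 1 → e ^ 3 = 1 := by decide

theorem perm_fin_four : ∀ e : Perm (Fin 4), Perm.sign e = 1 →
    (e ^ 3 = 1 ∨ e * e = 1) ∧ (e * e = 1 → ∀ x, e x = x → e = 1) := by decide

theorem card_even_involutions :
    Fintype.card {e : Perm (Fin 4) // Perm.sign e = 1 ∧ e * e = 1} = 4 := by decide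

/-- The determinant of a monomial map. -/
theorem det_monomial {K V : Type*} [CommRing K] [AddCommGroup V] [Module K V]
    (bv : Module.Basis X K V) (f : V →ₗ[K] V) (e : Perm X) (s : X → K)
    (h : ∀ x, f (bv x) = s x • bv (e x)) :
    LinearMap.det f = (Perm.sign e : ℤ) * ∏ x, s x := by
  have h1 : bv.det (f ∘ bv) = LinearMap.det f * bv.det bv := bv.det_comp f bv
  rw [bv.det_self, mul_one] at h1
  rw [← h1, show (f ∘ bv) = fun x => s x • (bv ∘ e) x from funext h, AlternatingMap.map_smul_univ,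
    AlternatingMap.map_perm, bv.det_self, Units.smul_def, zsmul_eq_mul, mul_one, smul_eq_mul,
    mul_comm]

end H88.Cubic
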