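import Cfsg.Agent.H88.CubicBlock.Basic
import Cfsg.Agent.H88.CubicBlock.ThreeCycle
import Cfsg.Agent.H6.Basic

/-!
The monomial case: a noncentral elementary abelian normal `2`-subgroup.
-/

set_option autoImplicit false
set_option linter.style.haveILetI false
set_option linter.unusedSectionVars false

open scoped commutatorElement

namespace H88.Cubic

variable {V : Type*} [AddCommGroup V] [Module (ZMod 3) V] {H : Type*} [Group H]

/-- The conclusion of the block theorem. -/
def Goal (R : Subgroup H) : Prop :=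
  (Cfsg.IsElementaryAbelian 2 R ∧ Nat.card R = 4) ∨
    (Cfsg.IsExtraspecial 2 R ∧ Nat.card R = 32 ∧
      ∃ A : Subgroup H, A ≤ R ∧ Cfsg.IsElementaryAbelian 2 A ∧ Nat.card A = 8)

variable {σ : H →* Module.End (ZMod 3) V} {R : Subgroup H} {b q : H}

theorem Setup.four_le_card [Finite H] (c : Setup σ R b q) : 4 ≤ Nat.card R := by
  classical
  have hq1 : q ≠ 1 := fun h => c.ne_q (by rw [h]; group)
  have h1 : b * q * b⁻¹ ≠ 1 := fun h => hq1 (by simpa using h)
  have h2 : q * (b * q * b⁻¹) ≠ 1 := fun h =>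
    c.ne_q (((eq_inv_of_mul_eq_one_right h)).trans (inv_eq_of_mul_eq_one_right c.sq_q))
  have h3 : q ≠ q * (b * q * b⁻¹) := fun h => h1 (mul_eq_left.1 h.symm)
  have h4 : b * q * b⁻¹ ≠ q * (b * q * b⁻¹) := fun h => hq1 (mul_eq_right.1 h.symm)
  haveI := Fintype.ofFinite R
  rw [Nat.card_eq_fintype_card]
  have h5 : ({⟨1, R.one_mem⟩, ⟨q, c.mem_q⟩, ⟨_, c.q1_mem⟩, ⟨_, R.mul_mem c.mem_q c.q1_mem⟩} :
      Finset R).card = 4 := by
    rw [Finset.card_insert_of_notMem (by
        simp only [Finset.mem_insert, Finset.mem_singleton, Subtype.mk.injEq, not_or]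
        exact ⟨hq1.symm, h1.symm, h2.symm⟩),
      Finset.card_insert_of_notMem (by
        simp only [Finset.mem_insert, Finset.mem_singleton, Subtype.mk.injEq, not_or]
        exact ⟨c.ne_q.symm, h3⟩),
      Finset.card_insert_of_notMem (by
        simp only [Finset.mem_singleton, Subtype.mk.injEq]
        exact h4), Finset.card_singleton]
  exact h5 ▸ Finset.card_le_univ _

theorem isExtraspecial_two {P : Type*} [Group P] [Finite P] (hP : IsPGroup 2 P)
    (hc : Nat.card (Subgroup.center P) = 2) (hsq : ∀ x : P, x * x ∈ Subgroup.center P)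
    (hne : Subgroup.center P ≠ ⊤) : Cfsg.IsExtraspecial 2 P := by
  haveI : Fact (Nat.Prime 2) := ⟨Nat.prime_two⟩
  have hle : commutator P ≤ Subgroup.center P := by
    rw [commutator_def, Subgroup.commutator_le]
    intro x _ y _
    rw [← QuotientGroup.eq_one_iff (N := Subgroup.center P)]
    show QuotientGroup.mk' (Subgroup.center P) ⁅x, y⁆ = 1
    rw [map_commutatorElement, commutatorElement_eq_one_iff_mul_comm]
    have hinv : ∀ z : P ⧸ Subgroup.center P, z⁻¹ = z := fun z => by
      obtain ⟨w, rfl⟩ := QuotientGroup.mk_surjective z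
      exact inv_eq_of_mul_eq_one_right ((QuotientGroup.eq_one_iff _).2 (hsq w))
    calc QuotientGroup.mk' (Subgroup.center P) x * QuotientGroup.mk' _ y
        = ((QuotientGroup.mk' (Subgroup.center P) x * QuotientGroup.mk' _ y))⁻¹ := (hinv _).symm
      _ = (QuotientGroup.mk' (Subgroup.center P) y)⁻¹ * (QuotientGroup.mk' _ x)⁻¹ := mul_inv_rev _ _
      _ = _ := by rw [hinv, hinv]
  have hne' : commutator P ≠ ⊥ := by
    intro h
    refine hne (eq_top_iff.2 fun x _ => Subgroup.mem_center_iff.2 fun y => ?_)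
    have h1 : ⁅y, x⁆ ∈ commutator P := by
      rw [commutator_def]
      exact Subgroup.commutator_mem_commutator (Subgroup.mem_top y) (Subgroup.mem_top x)
    rw [h, Subgroup.mem_bot, commutatorElement_eq_one_iff_mul_comm] at h1
    exact h1
  have heq : commutator P = Subgroup.center P := by
    refine Subgroup.eq_of_le_of_card_ge hle ?_
    rw [hc]
    exact (Subgroup.one_lt_card_iff_ne_bot _).2 hne'
  refine ⟨⟨hP, le_antisymm ?_ (heq ▸ H6.commutator_le_frattini hP), heq⟩, hc⟩
  exact H6.frattini_le_of_quotient (p := 2) _ hle fun g => by rw [pow_two]; exact hsq g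

variable [Finite V] [Finite H]

section
variable (A : Subgroup H)

/-- The eigenspace of a sign function on `A`. -/
def eigen (σ : H →* Module.End (ZMod 3) V) (χ : A → ZMod 3) : Submodule (ZMod 3) V where
  carrier := {v | ∀ a : A, σ a v = χ a • v}
  zero_mem' := fun a => by simp
  add_mem' := fun {x y} hx hy a => by rw [map_add, hx a, hy a, smul_add]
  smul_mem' := fun t x hx a => by rw [map_smul, hx a, smul_comm]

/-- The sign functions occurring. -/
abbrev Sgn (σ : H →* Module.End (ZMod 3) V) := {χ : A → ZMod 3 // eigen A σ χ ≠ ⊥}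

variable [hA : A.Normal]

/-- The conjugate sign function. -/
def conjSgn (h : H) (χ : A → ZMod 3) : A → ZMod 3 := fun a =>
  χ ⟨h⁻¹ * (a : H) * h, by
    have := hA.conj_mem (a : H) a.2 h⁻¹
    rwa [inv_inv] at this⟩

theorem conjSgn_one (χ : A → ZMod 3) : conjSgn A 1 χ = χ := by
  funext a; exact congrArg χ (Subtype.ext (by group))

theorem conjSgn_mul (g h : H) (χ : A → ZMod 3) :
    conjSgn A (g * h) χ = conjSgn A g (conjSgn A h χ) := by
  funext a; exact congrArg χ (Subtype.ext (by push_cast; group))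

theorem apply_mem_eigen (h : H) {χ : A → ZMod 3} {v : V} (hv : v ∈ eigen A σ χ) :
    σ h v ∈ eigen A σ (conjSgn A h χ) := by
  intro a
  have hmem : h⁻¹ * (a : H) * h ∈ A := by
    have := hA.conj_mem (a : H) a.2 h⁻¹
    rwa [inv_inv] at this
  have h1 : σ (h⁻¹ * (a : H) * h) v = conjSgn A h χ a • v := hv ⟨_, hmem⟩
  rw [← map_smul, ← h1, ← mul_apply', ← mul_apply', show h * (h⁻¹ * (a : H) * h) = a * h by group]

theorem conjSgn_ne_bot (h : H) {χ : A → ZMod 3} (hχ : eigen A σ χ ≠ ⊥) :
    eigen A σ (conjSgn A h χ) ≠ ⊥ := by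
  obtain ⟨v, hv, hv0⟩ := Submodule.exists_mem_ne_zero_of_ne_bot hχ
  intro h0
  have h1 : σ h v ∈ (⊥ : Submodule (ZMod 3) V) := h0 ▸ apply_mem_eigen A h hv
  exact hv0 (by rw [← inv_apply' σ h v, (Submodule.mem_bot _).1 h1, map_zero])

/-- The permutation action on the sign functions. -/
noncomputable def sgnPerm : H →* Equiv.Perm (Sgn A σ) where
  toFun h :=
    { toFun := fun χ => ⟨conjSgn A h χ.1, conjSgn_ne_bot A h χ.2⟩
      invFun := fun χ => ⟨conjSgn A h⁻¹ χ.1, conjSgn_ne_bot A h⁻¹ χ.2⟩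
      left_inv := fun χ => Subtype.ext (by
        show conjSgn A h⁻¹ (conjSgn A h χ.1) = χ.1
        rw [← conjSgn_mul, inv_mul_cancel, conjSgn_one])
      right_inv := fun χ => Subtype.ext (by
        show conjSgn A h (conjSgn A h⁻¹ χ.1) = χ.1
        rw [← conjSgn_mul, mul_inv_cancel, conjSgn_one]) }
  map_one' := Equiv.ext fun χ => Subtype.ext (conjSgn_one A χ.1)
  map_mul' g h := Equiv.ext fun χ => Subtype.ext (conjSgn_mul A g h χ.1)

theorem mem_eigen_perm (h : H) {χ : Sgn A σ} {v : V} (hv : v ∈ eigen A σ χ.1) :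
    σ h v ∈ eigen A σ (sgnPerm A h χ).1 := apply_mem_eigen A h hv

end

theorem exists_eigen (A : Subgroup H) (hAc : ∀ x ∈ A, ∀ y ∈ A, x * y = y * x)
    (hA2 : ∀ a ∈ A, a * a = 1) {v : V} (hv : v ≠ 0) :
    ∃ (χ : A → ZMod 3) (w : V), w ∈ eigen A σ χ ∧ w ≠ 0 := by
  classical
  haveI := Fintype.ofFinite A
  have key : ∀ s : Finset A, ∃ w : V, w ≠ 0 ∧ ∀ a ∈ s, σ a w = w ∨ σ a w = -w := by
    intro s
    induction s using Finset.induction_on with
    | empty => exact ⟨v, hv, fun a ha => absurd ha (Finset.notMem_empty a)⟩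
    | insert a s _ ih =>
      obtain ⟨w, hw0, hw⟩ := ih
      by_cases hz : w + σ a w = 0
      · refine ⟨w, hw0, fun x hx => ?_⟩
        rcases Finset.mem_insert.1 hx with rfl | hx
        · exact Or.inr (eq_neg_of_add_eq_zero_right hz)
        · exact hw x hx
      · refine ⟨w + σ a w, hz, fun x hx => ?_⟩
        rcases Finset.mem_insert.1 hx with rfl | hx
        · left
          rw [map_add, ← mul_apply', hA2 x x.2, map_one, add_comm]
          rfl
        · have hc : σ x (σ a w) = σ a (σ x w) := by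
            rw [← mul_apply', ← mul_apply', hAc x x.2 a a.2]
          rcases hw x hx with e | e
          · left; rw [map_add, hc, e]
          · right; rw [map_add, hc, e, map_neg, neg_add]
  obtain ⟨w, hw0, hw⟩ := key Finset.univ
  refine ⟨fun a => if σ a w = w then 1 else -1, w, fun a => ?_, hw0⟩
  show σ a w = (if σ a w = w then (1 : ZMod 3) else -1) • w
  split_ifs with h
  · rw [one_smul, h]
  · rw [neg_one_smul]
    exact (hw a (Finset.mem_univ a)).resolve_left h

theorem eigen_indep (A : Subgroup H) (σ : H →* Module.End (ZMod 3) V) :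
    iSupIndep fun χ : Sgn A σ => eigen A σ χ.1 := by
  classical
  rw [iSupIndep_iff_finsetSum_eq_zero_imp_eq_zero]
  intro s
  induction s using Finset.induction_on with
  | empty => simp
  | insert χ₁ s hnot ih =>
    intro v hmem hsum χ hχ
    rw [Finset.sum_insert hnot] at hsum
    have key : ∀ a : A, ∀ ψ ∈ s, (ψ.1 a - χ₁.1 a) • v ψ = 0 := by
      intro a
      refine ih (fun ψ => (ψ.1 a - χ₁.1 a) • v ψ)
        (fun ψ hψ => Submodule.smul_mem _ _ (hmem ψ (Finset.mem_insert_of_mem hψ))) ?_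
      have h2 := congrArg (fun w => σ a w - χ₁.1 a • w) hsum
      simp only [map_add, map_sum, map_zero, smul_zero, sub_zero, smul_add, Finset.smul_sum] at h2
      rw [hmem χ₁ (Finset.mem_insert_self _ _) a, add_sub_add_left_eq_sub,
        ← Finset.sum_sub_distrib] at h2
      rw [← h2]
      refine Finset.sum_congr rfl fun ψ hψ => ?_
      rw [hmem ψ (Finset.mem_insert_of_mem hψ) a, sub_smul]
    have hzero : ∀ ψ ∈ s, v ψ = 0 := by
      intro ψ hψ
      obtain ⟨a, ha⟩ : ∃ a, ψ.1 a ≠ χ₁.1 a := Function.ne_iff.1 fun e =>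
        hnot (Subtype.ext e ▸ hψ)
      exact (smul_eq_zero.1 (key a ψ hψ)).resolve_left (sub_ne_zero.2 ha)
    rcases Finset.mem_insert.1 hχ with rfl | hχ
    · rwa [Finset.sum_eq_zero hzero, add_zero] at hsum
    · exact hzero χ hχ

theorem Setup.monomial (c : Setup σ R b q) (A : Subgroup H) [hA : A.Normal] (hAR : A ≤ R)
    (hAc : ∀ x ∈ A, ∀ y ∈ A, x * y = y * x) (hA2 : ∀ a ∈ A, a * a = 1)
    {a₀ : H} (ha₀ : a₀ ∈ A) (hs1 : ∃ v, σ a₀ v ≠ v) (hs2 : ∃ v, σ a₀ v ≠ -v) : Goal R := by
  classical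
  haveI : Fintype (Sgn A σ) := Fintype.ofFinite _
  set E : Sgn A σ → Submodule (ZMod 3) V := fun χ => eigen A σ χ.1 with hE
  have hind : iSupIndep E := eigen_indep A σ
  set π := sgnPerm (σ := σ) A
  obtain ⟨v₁, hv₁⟩ := hs1
  have hv₁0 : v₁ ≠ 0 := fun h => hv₁ (by rw [h, map_zero])
  obtain ⟨χ₀, w₀, hw₀, hw₀0⟩ := exists_eigen (σ := σ) A hAc hA2 hv₁0
  have hspanS : ∀ S : Set (Sgn A σ), (∀ h, ∀ χ ∈ S, π h χ ∈ S) → S.Nonempty → (⨆ χ ∈ S, E χ) = ⊤ := by
    intro S hS hne
    obtain ⟨χ, hχ⟩ := hne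
    obtain ⟨w, hw, hw0⟩ := Submodule.exists_mem_ne_zero_of_ne_bot χ.2
    refine c.eq_top ?_ (le_iSup₂ (f := fun χ (_ : χ ∈ S) => E χ) χ hχ hw) hw0
    intro h v hv
    have hle : (⨆ χ ∈ S, E χ) ≤ (⨆ χ ∈ S, E χ).comap (σ h) :=
      iSup₂_le fun ψ hψ u hu => le_iSup₂ (f := fun χ (_ : χ ∈ S) => E χ) (π h ψ) (hS h ψ hψ)
        (mem_eigen_perm A h hu)
    exact hle hv
  have hfull : (⨆ χ, E χ) = ⊤ := by
    have := hspanS Set.univ (fun _ _ _ => trivial)
      ⟨⟨χ₀, fun h => hw₀0 ((Submodule.mem_bot _).1 (h ▸ hw₀))⟩, trivial⟩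
    simpa using this
  have hext : ∀ g g' : H, (∀ χ, ∀ v ∈ E χ, σ g v = σ g' v) → g = g' := fun g g' h =>
    c.inj (LinearMap.ext fun v => by
      have hv : v ∈ (⨆ χ, E χ) := hfull ▸ Submodule.mem_top
      induction hv using Submodule.iSup_induction' with
      | mem χ u hu => exact h χ u hu
      | zero => rw [map_zero, map_zero]
      | add u w _ _ hu hw => rw [map_add, map_add, hu, hw])
  obtain ⟨χ₁, hχ₁⟩ : ∃ χ, π b χ ≠ χ := by
    by_contra hfix
    push Not at hfix
    haveI : (Subgroup.centralizer (A : Set H)).Normal := inferInstance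
    have hbA : b ∈ Subgroup.centralizer (A : Set H) := Subgroup.mem_centralizer_iff.2 fun a ha => by
      refine hext _ _ fun χ v hv => ?_
      have h1 : σ b v ∈ E χ := by
        have := mem_eigen_perm A b hv
        rwa [show sgnPerm (σ := σ) A b χ = χ from hfix χ] at this
      rw [mul_apply', mul_apply', h1 ⟨a, ha⟩, hv ⟨a, ha⟩, map_smul]
    have hcom : ∀ h : H, a₀ * h = h * a₀ := fun h => by
      obtain ⟨r, hr, i, rfl⟩ := c.gen h
      exact Subgroup.mem_centralizer_iff.1
        ((Subgroup.centralizer (A : Set H)).mul_mem (c.R_le hbA hr)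
          ((Subgroup.centralizer (A : Set H)).pow_mem hbA i)) a₀ ha₀
    obtain ⟨v₂, hv₂⟩ := hs2
    have hfixd := c.irr (LinearMap.ker (σ a₀ - 1)) (fun h v hv => by
      rw [LinearMap.mem_ker, LinearMap.sub_apply, Module.End.one_apply, sub_eq_zero] at hv ⊢
      rw [← mul_apply', hcom, mul_apply', hv])
    rcases hfixd with h | h
    · refine hv₂ ?_
      have h1 : v₂ + σ a₀ v₂ ∈ LinearMap.ker (σ a₀ - 1) := by
        rw [LinearMap.mem_ker, LinearMap.sub_apply, Module.End.one_apply, map_add, ← mul_apply',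
          hA2 a₀ ha₀, map_one, Module.End.one_apply, sub_eq_zero, add_comm]
      rw [h, Submodule.mem_bot] at h1
      exact eq_neg_of_add_eq_zero_right h1
    · exact hv₁ (sub_eq_zero.1 (LinearMap.mem_ker.1 (h ▸ Submodule.mem_top)))
  have hb3 : ∀ χ, π b (π b (π b χ)) = χ := fun χ => by
    rw [← Equiv.Perm.mul_apply, ← Equiv.Perm.mul_apply, ← map_mul, ← map_mul,
      show b * b * b = 1 by rw [← c.pow_b, pow_succ, pow_two], map_one]
    rfl
  have hbinj : Function.Injective (σ b) := Function.LeftInverse.injective (inv_apply' σ b)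
  have hdim_perm : ∀ h χ, Module.finrank (ZMod 3) (E χ) ≤ Module.finrank (ZMod 3) (E (π h χ)) :=
    fun h χ => by
      have hi : Function.Injective (σ h) := Function.LeftInverse.injective (inv_apply' σ h)
      rw [LinearEquiv.finrank_eq (Submodule.equivMapOfInjective _ hi (E χ))]
      refine Submodule.finrank_mono ?_
      rintro _ ⟨v, hv, rfl⟩
      exact mem_eigen_perm A h hv
  have hpos : ∀ χ : Sgn A σ, 1 ≤ Module.finrank (ZMod 3) (E χ) := fun χ =>
    Submodule.one_le_finrank_iff.2 χ.2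
  have hne2 : π b (π b χ₁) ≠ χ₁ := fun h => hχ₁ (by
    conv_rhs => rw [← hb3 χ₁]
    rw [h])
  have hne12 : π b (π b χ₁) ≠ π b χ₁ := fun h => hχ₁ ((π b).injective h)
  -- blocks of three
  have hbound : ∀ S : Set (Sgn A σ), Disjoint S (π b '' S) → Disjoint S (π b '' (π b '' S)) →
      Module.finrank (ZMod 3) ↥(⨆ χ ∈ S, E χ) ≤ 1 := by
    intro S hd1 hd2
    set W : Set (Sgn A σ) → Submodule (ZMod 3) V := fun T => ⨆ χ ∈ T, E χ with hW
    have hmap : ∀ (T : Set (Sgn A σ)), ∀ x ∈ W T, σ b x ∈ W (π b '' T) := by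
      intro T x hx
      have hle : W T ≤ (W (π b '' T)).comap (σ b) :=
        iSup₂_le fun ψ hψ u hu => le_iSup₂ (f := fun χ (_ : χ ∈ π b '' T) => E χ) (π b ψ)
          ⟨ψ, hψ, rfl⟩ (mem_eigen_perm A b hu)
      exact hle hx
    have hd3 : Disjoint (π b '' S) (π b '' (π b '' S)) := Set.disjoint_image_of_injective (π b).injective hd1
    have hdis : ∀ T T' : Set (Sgn A σ), Disjoint T T' → Disjoint (W T) (W T') := fun T T' h =>
      hind.disjoint_biSup_biSup h
    have h := perm3_bound (σ b) hbinj (W S) (W (π b '' S)) (W (π b '' (π b '' S))) (hmap S) (hmap _) (by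
      intro x hx y hy z hz hsum
      have h1 : x ∈ W (π b '' S ∪ π b '' (π b '' S)) := by
        rw [show x = -(y + z) from eq_neg_of_add_eq_zero_left (by rw [← add_assoc]; exact hsum)]
        refine neg_mem (add_mem ?_ ?_)
        · exact SetLike.le_def.1 (biSup_mono (f := E) (fun _ h => Set.mem_union_left _ h)) hy
        · exact SetLike.le_def.1 (biSup_mono (f := E) (fun _ h => Set.mem_union_right _ h)) hz
      have hx0 : x = 0 := Submodule.disjoint_def.1 (hdis _ _ (hd1.union_right hd2)) x hx h1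
      subst hx0
      rw [zero_add] at hsum
      have hy0 : y = 0 := Submodule.disjoint_def.1 (hdis _ _ hd3) y hy
        (by rw [eq_neg_of_add_eq_zero_left hsum]; exact neg_mem hz)
      subst hy0
      rw [zero_add] at hsum
      exact ⟨rfl, rfl, hsum⟩)
    have hmono : Module.finrank (ZMod 3) (W S) ≤ Module.finrank (ZMod 3) (W (π b '' S)) := by
      rw [LinearEquiv.finrank_eq (Submodule.equivMapOfInjective _ hbinj (W S))]
      refine Submodule.finrank_mono ?_
      rintro _ ⟨v, hv, rfl⟩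
      exact hmap S v hv
    have := c.rank
    show Module.finrank (ZMod 3) (W S) ≤ 1
    omega
  have hline : Module.finrank (ZMod 3) (E χ₁) ≤ 1 := by
    have h := hbound {χ₁} (by simpa [eq_comm] using hχ₁) (by simpa [eq_comm] using hne2)
    rwa [iSup_singleton] at h
  set S₁ : Set (Sgn A σ) := {ψ | ∃ h, π h χ₁ = ψ}
  have horb : ∀ ψ, ∃ h, π h χ₁ = ψ := by
    intro ψ
    by_contra hψ
    have h1 := hspanS S₁ (fun g χ ⟨h, e⟩ => ⟨g * h, by rw [map_mul, Equiv.Perm.mul_apply, e]⟩)
      ⟨χ₁, 1, by simp⟩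
    have h2 : Disjoint (E ψ) (⨆ χ ∈ S₁, E χ) := hind.disjoint_biSup (y := S₁) hψ
    rw [h1, disjoint_top] at h2
    exact ψ.2 h2
  have hone : ∀ ψ, Module.finrank (ZMod 3) (E ψ) = 1 := by
    intro ψ
    obtain ⟨h, rfl⟩ := horb ψ
    refine le_antisymm ?_ (hpos _)
    refine le_trans (hdim_perm h⁻¹ _) ?_
    rw [← Equiv.Perm.mul_apply, ← map_mul, inv_mul_cancel, map_one]
    exact hline
  have hsupp : ∀ z, z ≠ χ₁ → z ≠ π b χ₁ → z ≠ π b (π b χ₁) → π b z = z := by
    intro z z1 z2 z3
    by_contra hz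
    have hz2 : π b (π b z) ≠ z := fun h => hz (by
      conv_rhs => rw [← hb3 z]
      rw [h])
    have e1 : π b z ≠ χ₁ := fun h => z3 (by rw [← h, hb3])
    have e2 : π b (π b z) ≠ χ₁ := fun h => z2 (by rw [← h, hb3])
    have h := hbound {χ₁, z}
      (by simp [Set.image_insert_eq, Set.disjoint_left, Ne.symm hχ₁, Ne.symm hz, Ne.symm e1, z2])
      (by simp [Set.image_insert_eq, Set.disjoint_left, Ne.symm hne2, Ne.symm hz2, Ne.symm e2, z3])
    rw [iSup_pair] at h
    have hd : Disjoint (E χ₁) (E z) := hind.pairwiseDisjoint z1.symm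
    have := Submodule.finrank_sup_add_finrank_inf_eq (E χ₁) (E z)
    rw [hd.eq_bot, finrank_bot, hone, hone] at this
    omega
  -- a basis of eigenvectors
  choose v hvE hv0 using fun χ : Sgn A σ => Submodule.exists_mem_ne_zero_of_ne_bot χ.2
  have hli : LinearIndependent (ZMod 3) v := hind.linearIndependent E hvE hv0
  have hEspan : ∀ χ, E χ ≤ Submodule.span (ZMod 3) {v χ} := fun χ => by
    refine le_of_eq (Submodule.eq_of_le_of_finrank_le ?_ ?_).symm
    · rw [Submodule.span_singleton_le_iff_mem]; exact hvE χ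
    · rw [finrank_span_singleton (hv0 χ), hone]
  let bv : Module.Basis (Sgn A σ) (ZMod 3) V := Module.Basis.mk hli (by
    rw [← hfull]
    exact iSup_le fun χ => (hEspan χ).trans (Submodule.span_mono (by
      rintro _ rfl; exact ⟨χ, rfl⟩)))
  have hbv : ∀ χ, bv χ = v χ := fun χ => Module.Basis.mk_apply _ _ χ
  have hcoef : ∀ (h : H) χ, ∃ t : ZMod 3, σ h (v χ) = t • v (π h χ) := fun h χ => by
    obtain ⟨t, ht⟩ := Submodule.mem_span_singleton.1 (hEspan _ (mem_eigen_perm A h (hvE χ)))
    exact ⟨t, ht.symm⟩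
  choose s hs using hcoef
  have hsne : ∀ h χ, s h χ ≠ 0 := fun h χ e => hv0 χ (by
    have := hs h χ
    rw [e, zero_smul] at this
    rw [← inv_apply' σ h (v χ), this, map_zero])
  have hs_sq : ∀ h χ, s h χ * s h χ = 1 := fun h χ => by
    rcases zmod_three_cases (s h χ) with e | e | e
    · exact absurd e (hsne h χ)
    · rw [e, one_mul]
    · rw [e]; decide
  have hdet : ∀ h, LinearMap.det (σ h) = (Equiv.Perm.sign (π h) : ℤ) * ∏ χ, s h χ := fun h =>
    det_monomial bv (σ h) (π h) (s h) fun χ => by rw [hbv, hbv]; exact hs h χ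
  have hsign : ∀ r ∈ R, Equiv.Perm.sign (π r) = 1 := fun r hr =>
    c.R_le_ker (Equiv.Perm.sign.comp π) hr
  have hprod : ∀ r ∈ R, ∏ χ, s r χ = 1 := fun r hr => by
    have h1 := c.R_le_ker (((LinearMap.det : Module.End (ZMod 3) V →* ZMod 3).comp σ).toHomUnits) hr
    have h2 : LinearMap.det (σ r) = 1 := congrArg Units.val (MonoidHom.mem_ker.1 h1)
    rw [hdet, hsign r hr] at h2
    simpa using h2
  -- at most four points
  have hcoprime : ∀ r ∈ R, π r ^ 3 = 1 → π r = 1 := by
    intro r hr h3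
    rw [← orderOf_eq_one_iff]
    refine Nat.eq_one_of_dvd_coprimes c.cop ?_ (orderOf_dvd_of_pow_eq_one h3)
    exact (orderOf_map_dvd π r).trans (Subgroup.orderOf_dvd_natCard R hr)
  have hle4 : Fintype.card (Sgn A σ) ≤ 4 := card_le_four (R.map π) (π b)
    (by rintro _ ⟨r, hr, rfl⟩ h; exact hcoprime r hr h)
    (by rintro _ ⟨r, hr, rfl⟩; exact ⟨b * r * b⁻¹, c.conj_mem hr b, by simp⟩)
    (by rw [← map_pow, c.pow_b, map_one]) χ₁ hχ₁ hsupp (fun z => by
      obtain ⟨h, rfl⟩ := horb z
      obtain ⟨r, hr, i, rfl⟩ := c.gen h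
      exact ⟨π r, ⟨r, hr, rfl⟩, i, by rw [map_mul, map_pow]; rfl⟩)
  have h3le : 3 ≤ Fintype.card (Sgn A σ) := by
    have : ({χ₁, π b χ₁, π b (π b χ₁)} : Finset (Sgn A σ)).card = 3 := by
      simp [Finset.card_insert_of_notMem, hχ₁.symm, hne2.symm, hne12.symm]
    exact this ▸ Finset.card_le_univ _
  -- diagonal elements
  have hdiag_ext : ∀ g g' : H, π g = π g' → (∀ χ, s g χ = s g' χ) → g = g' := fun g g' hp hsg =>
    c.inj (bv.ext fun χ => by rw [hbv, hs, hs, hp, hsg])
  have hs_mul : ∀ g h χ, s (g * h) χ = s g (π h χ) * s h χ := fun g h χ => by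
    have e1 := hs (g * h) χ
    rw [mul_apply', hs h χ, map_smul, hs g, smul_smul, map_mul, Equiv.Perm.mul_apply] at e1
    rw [mul_comm]
    exact (smul_left_injective (ZMod 3) (hv0 _) e1).symm
  have hs_one : ∀ χ, s 1 χ = 1 := fun χ => by
    have e1 := hs 1 χ
    rw [map_one, map_one, Equiv.Perm.one_apply, Module.End.one_apply] at e1
    exact (smul_left_injective (ZMod 3) (hv0 χ) (e1.symm.trans (one_smul _ (v χ)).symm))
  have hdiag_comm : ∀ g h : H, π g = 1 → π h = 1 → g * h = h * g := fun g h hg hh =>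
    hdiag_ext _ _ (by rw [map_mul, map_mul, hg, hh]) fun χ => by
      rw [hs_mul, hs_mul, hg, hh, Equiv.Perm.one_apply, mul_comm]
  have hdiag_sq : ∀ g : H, π g = 1 → g * g = 1 := fun g hg =>
    hdiag_ext _ _ (by rw [map_mul, hg, map_one, one_mul]) fun χ => by
      rw [hs_mul, hg, Equiv.Perm.one_apply, hs_sq, hs_one]
  haveI : Fact (Nat.Prime 2) := ⟨Nat.prime_two⟩
  rcases h3le.eq_or_lt with hcard | hlt
  · -- three eigenlines
    have hπR : ∀ r ∈ R, π r = 1 := by
      intro r hr
      refine hcoprime r hr ?_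
      set e := Fintype.equivFinOfCardEq hcard.symm
      have h := perm_fin_three (e.permCongr (π r)) (by rw [Equiv.Perm.sign_permCongr]; exact hsign r hr)
      apply e.permCongrHom.injective
      rw [map_pow, map_one]
      exact h
    refine Or.inl ⟨⟨⟨⟨fun x y => Subtype.ext (hdiag_comm _ _ (hπR x x.2) (hπR y y.2))⟩⟩,
      fun a ha => by rw [pow_two]; exact hdiag_sq a (hπR a ha)⟩, le_antisymm ?_ c.four_le_card⟩
    have hinj : Function.Injective (fun r : R =>
        ((⟨s r χ₁, hsne _ _⟩, ⟨s r (π b χ₁), hsne _ _⟩) : {t : ZMod 3 // t ≠ 0} × {t : ZMod 3 // t ≠ 0})) := by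
      intro r r' h
      simp only [Prod.mk.injEq, Subtype.mk.injEq] at h
      refine Subtype.ext (hdiag_ext _ _ (by rw [hπR r r.2, hπR r' r'.2]) fun χ => ?_)
      have huniv : (Finset.univ : Finset (Sgn A σ)) = {χ₁, π b χ₁, π b (π b χ₁)} :=
        (Finset.eq_of_subset_of_card_le (Finset.subset_univ _) (by
          rw [Finset.card_univ, ← hcard]
          simp [Finset.card_insert_of_notMem, hχ₁.symm, hne2.symm, hne12.symm])).symm
      have p1 := hprod r r.2
      have p2 := hprod r' r'.2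
      rw [huniv, Finset.prod_insert (by simp [hχ₁.symm, hne2.symm]),
        Finset.prod_insert (by simp [hne12.symm]), Finset.prod_singleton] at p1 p2
      have hχ : χ ∈ ({χ₁, π b χ₁, π b (π b χ₁)} : Finset (Sgn A σ)) := huniv ▸ Finset.mem_univ χ
      simp only [Finset.mem_insert, Finset.mem_singleton] at hχ
      rcases hχ with rfl | rfl | rfl
      · exact h.1
      · exact h.2
      · rw [h.1, h.2] at p1
        exact mul_left_cancel₀ (hsne _ _) (mul_left_cancel₀ (hsne _ _) (p1.trans p2.symm))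
    refine (Nat.card_le_card_of_injective _ hinj).trans ?_
    rw [Nat.card_prod, Nat.card_eq_fintype_card]
    decide
  -- four eigenlines
  have hcard : Fintype.card (Sgn A σ) = 4 := by omega
  set e4 := Fintype.equivFinOfCardEq hcard
  have hfour : ∀ g : Equiv.Perm (Sgn A σ), Equiv.Perm.sign g = 1 →
      (g ^ 3 = 1 ∨ g * g = 1) ∧ (g * g = 1 → ∀ x, g x = x → g = 1) := by
    intro g hg
    obtain ⟨h1, h2⟩ := perm_fin_four (e4.permCongr g) (by rwa [Equiv.Perm.sign_permCongr])
    refine ⟨h1.imp (fun h => ?_) (fun h => ?_), fun h x hx => ?_⟩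
    · apply e4.permCongrHom.injective
      rw [map_pow, map_one]; exact h
    · apply e4.permCongrHom.injective
      rw [map_mul, map_one]; exact h
    · apply e4.permCongrHom.injective
      rw [map_one]
      refine h2 ?_ (e4 x) (by simp [hx])
      have : e4.permCongrHom (g * g) = 1 := by rw [h, map_one]
      rwa [map_mul] at this
  have hinv : ∀ r ∈ R, π r * π r = 1 := fun r hr => by
    rcases (hfour _ (hsign r hr)).1 with h | h
    · rw [hcoprime r hr h, mul_one]
    · exact h
  have hfpf : ∀ r ∈ R, ∀ x, π r x = x → π r = 1 := fun r hr x hx =>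
    (hfour _ (hsign r hr)).2 (hinv r hr) x hx
  obtain ⟨w, hw⟩ : ∃ w, w ∉ ({χ₁, π b χ₁, π b (π b χ₁)} : Finset (Sgn A σ)) := by
    by_contra h
    push Not at h
    have := Finset.card_le_card (fun z _ => h z :
      (Finset.univ : Finset (Sgn A σ)) ⊆ {χ₁, π b χ₁, π b (π b χ₁)})
    have h3 := Finset.card_le_three (a := χ₁) (b := π b χ₁) (c := π b (π b χ₁))
    rw [Finset.card_univ, hcard] at this
    omega
  simp only [Finset.mem_insert, Finset.mem_singleton, not_or] at hw
  obtain ⟨r₁, hr₁, hr₁w⟩ : ∃ r ∈ R, π r ≠ 1 := by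
    by_contra h
    push Not at h
    obtain ⟨g, hg⟩ := horb w
    obtain ⟨r, hr, i, rfl⟩ := c.gen g
    have horbit : ∀ i : ℕ, π (b ^ i) χ₁ = χ₁ ∨ π (b ^ i) χ₁ = π b χ₁ ∨ π (b ^ i) χ₁ = π b (π b χ₁) := by
      intro i
      induction i with
      | zero => left; simp
      | succ i ih =>
        rw [pow_succ', map_mul, Equiv.Perm.mul_apply]
        rcases ih with e | e | e <;> rw [e]
        · exact Or.inr (Or.inl rfl)
        · exact Or.inr (Or.inr rfl)
        · exact Or.inl (hb3 χ₁)
    rw [map_mul, h r hr, one_mul] at hg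
    rcases horbit i with e | e | e <;> rw [e] at hg
    · exact hw.1 hg.symm
    · exact hw.2.1 hg.symm
    · exact hw.2.2 hg.symm
  set f := π.comp R.subtype with hf
  have hr2 : ∀ x : R, π (x : H) * π (x : H) = 1 := fun x => hinv x x.2
  have hrange : Nat.card f.range = 4 := by
    have hle : Nat.card f.range ≤ 4 := by
      have hinj : Function.Injective (fun g : f.range => (⟨e4.permCongr g.1, by
          obtain ⟨x, hx⟩ := g.2
          rw [← hx]
          refine ⟨by rw [Equiv.Perm.sign_permCongr]; exact hsign x x.2, ?_⟩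
          have : e4.permCongrHom (π x * π x) = 1 := by rw [hr2 x, map_one]
          rwa [map_mul] at this⟩ : {e : Equiv.Perm (Fin 4) // Equiv.Perm.sign e = 1 ∧ e * e = 1})) :=
        fun a b h => Subtype.ext (e4.permCongr.injective (congrArg Subtype.val h))
      refine (Nat.card_le_card_of_injective _ hinj).trans (le_of_eq ?_)
      rw [Nat.card_eq_fintype_card, card_even_involutions]
    have h2 : IsPGroup 2 f.range := fun g => ⟨1, by
      obtain ⟨x, hx⟩ := g.2
      refine Subtype.ext ?_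
      rw [pow_one, pow_two, Subgroup.coe_mul, ← hx]
      exact hr2 x⟩
    have h3 : 3 ≤ Nat.card f.range := by
      haveI := Fintype.ofFinite f.range
      rw [Nat.card_eq_fintype_card]
      let g : Fin 3 → f.range := ![1, ⟨_, ⟨r₁, hr₁⟩, rfl⟩, ⟨_, ⟨b * r₁ * b⁻¹, c.conj_mem hr₁ b⟩, rfl⟩]
      have hne : π (b * r₁ * b⁻¹) ≠ 1 := fun h => hr₁w (by
        rw [map_mul, map_mul, map_inv] at h; simpa using h)
      have hne' : π (b * r₁ * b⁻¹) ≠ π r₁ := by
        intro h
        refine hr₁w (hfpf r₁ hr₁ w ?_)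
        have hbw : π b w = w := hsupp w hw.1 hw.2.1 hw.2.2
        have e1 : π b (π r₁ w) = π r₁ w := by
          conv_rhs => rw [← h]
          simp only [map_mul, map_inv, Equiv.Perm.mul_apply]
          rw [show (π b)⁻¹ w = w by rw [Equiv.Perm.inv_def, Equiv.symm_apply_eq, hbw]]
        by_contra hne
        have hcov : ∀ z, z = w ∨ z = χ₁ ∨ z = π b χ₁ ∨ z = π b (π b χ₁) := by
          intro z
          by_contra hz
          push Not at hz
          have h5 : ({z, w, χ₁, π b χ₁, π b (π b χ₁)} : Finset (Sgn A σ)).card = 5 := by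
            simp [Finset.card_insert_of_notMem, hz.1, hz.2.1, hz.2.2.1, hz.2.2.2, hw.1, hw.2.1, hw.2.2,
              hχ₁.symm, hne2.symm, hne12.symm]
          have := Finset.card_le_univ ({z, w, χ₁, π b χ₁, π b (π b χ₁)} : Finset (Sgn A σ))
          omega
        rcases hcov (π r₁ w) with e | e | e | e
        · exact hne e
        all_goals rw [e] at e1
        · exact hχ₁ e1
        · exact hne12 e1
        · rw [hb3] at e1; exact hne2 e1.symm
      refine le_trans (by simp) (Fintype.card_le_of_injective g ?_)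
      intro i j hij
      have hij' : (g i : Equiv.Perm (Sgn A σ)) = g j := congrArg Subtype.val hij
      fin_cases i <;> fin_cases j <;> simp [g, f] at hij' ⊢
      · exact hr₁w hij'.symm
      · exact hne (by simpa using hij'.symm)
      · exact hr₁w hij'
      · exact hne' (by simpa using hij'.symm)
      · exact hne (by simpa using hij')
      · exact hne' (by simpa using hij')
    obtain ⟨k, hk⟩ := IsPGroup.iff_card.1 h2
    rcases Nat.lt_or_ge k 2 with hk2 | hk2
    · interval_cases k <;> omega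
    · have : 2 ^ 2 ≤ 2 ^ k := Nat.pow_le_pow_right (by norm_num) hk2
      omega
  -- transitivity
  have htransR : ∀ x y, ∃ r ∈ R, π r x = y := by
    intro x y
    have hinj : Function.Injective (fun g : f.range => g.1 x) := by
      intro g g' hgg
      obtain ⟨r, hr⟩ := g.2
      obtain ⟨r', hr'⟩ := g'.2
      have hfix : π ((r : H)⁻¹ * r') x = x := by
        have : f r x = f r' x := by rw [hr, hr']; exact hgg
        rw [map_mul, map_inv, Equiv.Perm.mul_apply, Equiv.Perm.inv_def, Equiv.symm_apply_eq]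
        exact this.symm
      have h1 := hfpf _ (R.mul_mem (R.inv_mem r.2) r'.2) x hfix
      rw [map_mul, map_inv, inv_mul_eq_one] at h1
      exact Subtype.ext (hr.symm.trans (h1.trans hr'))
    have hb : Function.Bijective (fun g : f.range => g.1 x) :=
      hinj.bijective_of_nat_card_le (by rw [hrange, Nat.card_eq_fintype_card, hcard])
    obtain ⟨⟨g, r, rfl⟩, hg⟩ := hb.2 y
    exact ⟨r, r.2, hg⟩
  -- the diagonal subgroup
  set D := R ⊓ π.ker with hD
  have hAD : A ≤ D := fun a ha => ⟨hAR ha, MonoidHom.mem_ker.2 (Equiv.ext fun χ => Subtype.ext (funext fun x => by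
    show χ.1 _ = χ.1 x
    refine congrArg χ.1 (Subtype.ext ?_)
    show a⁻¹ * (x : H) * a = x
    rw [mul_assoc, hAc x x.2 a ha, ← mul_assoc, inv_mul_cancel, one_mul]))⟩
  have hDcomm : ∀ x ∈ D, ∀ y ∈ D, x * y = y * x := fun x hx y hy => hdiag_comm x y hx.2 hy.2
  have hDsq : ∀ x ∈ D, x * x = 1 := fun x hx => hdiag_sq x hx.2
  have hD8 : Nat.card D ≤ 8 := by
    have hinj : Function.Injective (fun r : D => fun i : Fin 3 =>
        (⟨s r (![χ₁, π b χ₁, π b (π b χ₁)] i), hsne _ _⟩ : {t : ZMod 3 // t ≠ 0})) := by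
      intro r r' h
      have h0 := congrArg Subtype.val (congrFun h 0)
      have h1 := congrArg Subtype.val (congrFun h 1)
      have h2 := congrArg Subtype.val (congrFun h 2)
      simp at h0 h1 h2
      refine Subtype.ext (hdiag_ext _ _ (r.2.2.trans r'.2.2.symm) fun χ => ?_)
      have huniv : (Finset.univ : Finset (Sgn A σ)) = {w, χ₁, π b χ₁, π b (π b χ₁)} :=
        (Finset.eq_of_subset_of_card_le (Finset.subset_univ _) (by
          rw [Finset.card_univ, hcard]
          simp [Finset.card_insert_of_notMem, hw.1, hw.2.1, hw.2.2, hχ₁.symm, hne2.symm,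
            hne12.symm])).symm
      have p1 := hprod r r.2.1
      have p2 := hprod r' r'.2.1
      rw [huniv, Finset.prod_insert (by simp [hw.1, hw.2.1, hw.2.2])] at p1 p2
      rw [Finset.prod_insert (by simp [hχ₁.symm, hne2.symm]),
        Finset.prod_insert (by simp [hne12.symm]), Finset.prod_singleton] at p1 p2
      have hχ : χ ∈ ({w, χ₁, π b χ₁, π b (π b χ₁)} : Finset (Sgn A σ)) := huniv ▸ Finset.mem_univ χ
      simp only [Finset.mem_insert, Finset.mem_singleton] at hχ
      rcases hχ with rfl | rfl | rfl | rfl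
      · rw [h0, h1, h2] at p1
        exact mul_right_cancel₀ (mul_ne_zero (hsne _ _) (mul_ne_zero (hsne _ _) (hsne _ _)))
          (p1.trans p2.symm)
      · exact h0
      · exact h1
      · exact h2
    refine (Nat.card_le_card_of_injective _ hinj).trans ?_
    rw [Nat.card_eq_fintype_card]
    decide
  have hA5 : 5 ≤ Nat.card A := by
    haveI := Fintype.ofFinite A
    let φ : Option (Sgn A σ) → (A →* ZMod 3) := fun o =>
      match o with
      | none => 1
      | some χ =>
        { toFun := χ.1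
          map_one' := by
            refine smul_left_injective (ZMod 3) (hv0 χ) (show χ.1 1 • v χ = (1 : ZMod 3) • v χ from ?_)
            rw [← hvE χ 1, one_smul, OneMemClass.coe_one, map_one]; rfl
          map_mul' := fun x y => by
            refine smul_left_injective (ZMod 3) (hv0 χ)
              (show χ.1 (x * y) • v χ = (χ.1 x * χ.1 y) • v χ from ?_)
            rw [← hvE χ (x * y), Subgroup.coe_mul, mul_apply', hvE χ y, map_smul, hvE χ x, smul_smul,
              mul_comm] }
    have hnone : ∀ χ, φ (some χ) ≠ 1 := by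
      intro χ h
      have := c.fixed_eq_top A (v := v χ) (fun a ha => by
        have h1 : χ.1 ⟨a, ha⟩ = 1 := DFunLike.congr_fun h ⟨a, ha⟩
        have h2 := hvE χ ⟨a, ha⟩
        rw [h1, one_smul] at h2
        exact h2) (hv0 χ)
      have : a₀ = 1 := by
        rw [this] at ha₀; exact Subgroup.mem_bot.1 ha₀
      exact hv₁ (by rw [this, map_one]; rfl)
    have hinj : Function.Injective φ := by
      rintro (_ | χ) (_ | χ') h
      · rfl
      · exact absurd h.symm (hnone χ')
      · exact absurd h (hnone χ)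
      · exact congrArg some (Subtype.ext (congrArg DFunLike.coe h))
    have hli2 := (linearIndependent_monoidHom A (ZMod 3)).comp φ hinj
    have := hli2.fintype_card_le_finrank
    rw [Fintype.card_option, hcard, Module.finrank_pi, ← Nat.card_eq_fintype_card] at this
    exact this
  have hDcard : Nat.card D = 8 := by
    have h1 : IsPGroup 2 D := fun g => ⟨1, Subtype.ext (by
      rw [pow_one, pow_two]; exact hDsq g g.2)⟩
    obtain ⟨k, hk⟩ := IsPGroup.iff_card.1 h1
    have h2 := Subgroup.card_le_of_le hAD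
    rcases Nat.lt_or_ge k 3 with hk3 | hk3
    · interval_cases k <;> omega
    · have : 2 ^ 3 ≤ 2 ^ k := Nat.pow_le_pow_right (by norm_num) hk3
      omega
  have hRcard : Nat.card R = 32 := by
    have h1 := Subgroup.card_mul_index f.ker
    rw [Subgroup.index_ker, hrange] at h1
    have h2 : Nat.card f.ker = Nat.card D := by
      refine Nat.card_congr ⟨fun x => ⟨x.1.1, x.1.2, x.2⟩, fun x => ⟨⟨x.1, x.2.1⟩, x.2.2⟩,
        fun _ => rfl, fun _ => rfl⟩
    rw [h2, hDcard] at h1
    omega
  -- scalars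
  have hconst_or : ∀ g ∈ R, π g = 1 → (∀ χ χ', s g χ = s g χ') → ∀ h : H, g * h = h * g := by
    intro g _ hg hc h
    exact hdiag_ext _ _ (by rw [map_mul, map_mul, hg, one_mul, mul_one]) fun χ => by
      rw [hs_mul, hs_mul, hg, Equiv.Perm.one_apply, mul_comm, hc]
  have hRc : ∀ g ∈ R, (∀ h ∈ R, g * h = h * g) → π g = 1 ∧ ∀ χ χ', s g χ = s g χ' := by
    intro g _ hgc
    have hπ1 : π g = 1 := Equiv.ext fun χ => by
      show π g χ = χ
      by_contra hne
      refine hv0 χ ?_
      have h1 : σ g (v χ) ∈ E χ := fun a => by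
        rw [← mul_apply', ← hgc a (hAR a.2), mul_apply', hvE χ a, map_smul]
      have h2 : σ g (v χ) ∈ E (π g χ) := mem_eigen_perm A g (hvE χ)
      have h3 := Submodule.disjoint_def.1 (hind.pairwiseDisjoint hne) _ h2 h1
      rw [← inv_apply' σ g (v χ), h3, map_zero]
    refine ⟨hπ1, fun χ χ' => ?_⟩
    obtain ⟨r, hr, hrx⟩ := htransR χ χ'
    have h1 := hs_mul g r χ
    rw [hgc r hr, hs_mul, hπ1, Equiv.Perm.one_apply, hrx, mul_comm] at h1
    exact mul_right_cancel₀ (hsne r χ) h1
  have hsq : ∀ r ∈ R, ∀ h : H, r * r * h = h * (r * r) := by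
    intro r hr
    refine hconst_or _ (R.mul_mem hr hr) (by rw [map_mul]; exact hinv r hr) ?_
    by_cases hr1 : π r = 1
    · intro χ χ'
      rw [hdiag_sq r hr1, hs_one, hs_one]
    have hnf : ∀ x, π r x ≠ x := fun x hx => hr1 (hfpf r hr x hx)
    have hrr : ∀ x, π r (π r x) = x := fun x => by rw [← Equiv.Perm.mul_apply, hinv r hr]; rfl
    intro χ χ'
    rw [hs_mul, hs_mul]
    by_cases h1 : χ' = χ
    · rw [h1]
    by_cases h2 : χ' = π r χ
    · rw [h2, hrr, mul_comm]
    have hne' : π r χ' ≠ χ := fun h => h2 (by rw [← h, hrr])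
    have hne'' : π r χ' ≠ π r χ := fun h => h1 ((π r).injective h)
    have huniv : (Finset.univ : Finset (Sgn A σ)) = {π r χ, χ, π r χ', χ'} :=
      (Finset.eq_of_subset_of_card_le (Finset.subset_univ _) (by
        rw [Finset.card_univ, hcard]
        simp [Finset.card_insert_of_notMem, hnf χ, Ne.symm hne'', Ne.symm h2, Ne.symm hne',
          Ne.symm h1, hnf χ'])).symm
    have p := hprod r hr
    rw [huniv, Finset.prod_insert (by simp [hnf χ, Ne.symm hne'', Ne.symm h2]),
      Finset.prod_insert (by simp [Ne.symm hne', Ne.symm h1]),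
      Finset.prod_insert (by simp [hnf χ']), Finset.prod_singleton, ← mul_assoc] at p
    calc s r (π r χ) * s r χ
        = s r (π r χ) * s r χ * (s r (π r χ') * s r χ') * (s r (π r χ') * s r χ') := by
          rw [mul_assoc (s r (π r χ) * s r χ), mul_mul_mul_comm (s r (π r χ')), hs_sq, hs_sq,
            one_mul, mul_one]
      _ = s r (π r χ') * s r χ' := by rw [p, one_mul]
  have hP2 : IsPGroup 2 R := IsPGroup.of_card (n := 5) (by rw [hRcard]; norm_num)
  haveI : Nontrivial R := Finite.one_lt_card_iff_nontrivial.1 (by rw [hRcard]; norm_num)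
  haveI := hP2.center_nontrivial
  have hZ2 : Nat.card (Subgroup.center R) ≤ 2 := by
    have hinj : Function.Injective (fun g : Subgroup.center R =>
        (⟨s g.1.1 χ₁, hsne _ _⟩ : {t : ZMod 3 // t ≠ 0})) := by
      intro g g' h
      have hg := hRc _ g.1.2 fun x hx => congrArg Subtype.val
        (Subgroup.mem_center_iff.1 g.2 ⟨x, hx⟩).symm
      have hg' := hRc _ g'.1.2 fun x hx => congrArg Subtype.val
        (Subgroup.mem_center_iff.1 g'.2 ⟨x, hx⟩).symm
      refine Subtype.ext (Subtype.ext (hdiag_ext _ _ (hg.1.trans hg'.1.symm) fun χ => ?_))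
      rw [hg.2 χ χ₁, hg'.2 χ χ₁]
      exact congrArg Subtype.val h
    refine (Nat.card_le_card_of_injective _ hinj).trans ?_
    rw [Nat.card_eq_fintype_card]
    decide
  have hZcard : Nat.card (Subgroup.center R) = 2 := by
    have := Finite.one_lt_card (α := Subgroup.center R)
    omega
  refine Or.inr ⟨isExtraspecial_two hP2 hZcard (fun x => Subgroup.mem_center_iff.2 fun y =>
    Subtype.ext (hsq x x.2 y).symm) (fun h => ?_), hRcard, D, inf_le_left,
    ⟨⟨⟨fun x y => Subtype.ext (hDcomm x x.2 y y.2)⟩⟩, fun a ha => by rw [pow_two]; exact hDsq a ha⟩,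
    hDcard⟩
  rw [h, Subgroup.card_top, hRcard] at hZcard
  omega

end H88.Cubic
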